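import Cfsg.Agent.Mrg.Omega.NO3b.EZeroBase
import Cfsg.Agent.ZN.ChoiceBase
import Cfsg.Agent.ZN.Facts
import Cfsg.Agent.Mrg.Omega.TC.No
import Cfsg.Agent.Mrg.Omega.NO3S.Basic
import Cfsg.Agent.Mrg.Omega.NOThreeL.FFB.Rp2
import Cfsg.Agent.Mrg.Omega.TC.Int
import Cfsg.Agent.Mrg.Omega.KL.Def
import Cfsg.Agent.Mrg.Omega.TC.Crit
import Cfsg.Agent.Mrg.Omega.ML.MinIrr

-- merged: Cfsg.Agent.Mrg.Omega.OM.ThreeCore
section

/-!
# The counting argument behind LEMMA U and the PAIR LEMMA (NO-3S, `q ≥ 4`)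

Paper: helper997 #14470 ((U), (PL)), abstract form, K-free.

* `Root S B W Z q` : `B ≤ S` contains all members of `AA S` and acts on the elementary abelian group `W ≤ S` of order
  `q²` like the root group of `SL₂(q)` with centre `Z`; members of `AA S` act trivially or as the full root group.
* `Cfg S B P Q V W Z q'` : `Q ≤ B ≤ P`, `P` normalises `Q` and `V`, `Q` and `W` centralise `V`, `Z ≤ V`, the
  `P`-conjugates of `W` are in `S` and commute; `yy P V W = V ⟨W^P⟩`.  (`S = B` in the applications with `B`, `B = J(S)`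
  in the `J`-version of #15564 (A).)
* `MinA S Y A` : `A ∈ AA S` moves `Y`, with `|A : C_A(Y)|` minimal.
* `Cfg.caseOne` : if some `MinA` is not in `Q` and `Q` moves `W`, then `Z` is centralised by a conjugate of it.
* `Cfg.exists_min` : if `AA S` has a member acting on `V` as a root group which moves `Z` after conjugation
  (`q ≥ 3`), then not all `MinA` are in `Q`.
-/

set_option autoImplicit false

namespace Cfsg.Agent.Omega.OM.ThreeCore

open Subgroup Cfsg Cfsg.Agent.ZN Cfsg.Agent.ZN.ChoiceBase Cfsg.Agent.PLocal.ThompsonJ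
open Cfsg.Agent.Omega.NO3b.Ineq (cidx cidx_inf cidx_chain cidx_pos cidx_eq_one_iff cidx_mono_left rel_ne)

universe u

variable {G : Type u} [Group G]

/-! ### Products of commuting subgroups -/

theorem cent_norm (H : Subgroup G) : centralizer (H : Set G) ≤ normalizer (H : Set G) := by
  intro x hx
  rw [mem_normalizer_iff_cj]
  ext y
  rw [mem_cj]
  constructor
  · intro h
    have h1 := mem_centralizer_iff.1 hx _ h
    have h2 : y = x⁻¹ * y * x := by
      have : x⁻¹ * y * x * x = x * (x⁻¹ * y * x) := h1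
      calc y = x * (x⁻¹ * y * x) * x⁻¹ := by group
        _ = (x⁻¹ * y * x * x) * x⁻¹ := by rw [this]
        _ = x⁻¹ * y * x := by group
    rw [h2]; exact h
  · intro h
    have h1 := mem_centralizer_iff.1 hx _ h
    have h2 : x⁻¹ * y * x = y := by rw [mul_assoc, h1]; group
    rw [h2]; exact h

theorem mem_sup_comm {X D : Subgroup G} (h : X ≤ centralizer (D : Set G)) {x : G} (hx : x ∈ X ⊔ D) :
    ∃ a ∈ X, ∃ d ∈ D, x = a * d := by
  have h1 : x ∈ ((X ⊔ D : Subgroup G) : Set G) := hx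
  rw [coe_mul_of_left_le_normalizer_right X D (h.trans (cent_norm D))] at h1
  obtain ⟨a, ha, d, hd, e⟩ := Set.mem_mul.mp h1
  exact ⟨a, ha, d, hd, e.symm⟩

theorem card_eq_relIndex [Finite G] (K H : Subgroup G) :
    Nat.card H = K.relIndex H * Nat.card ↥(H ⊓ K) := by
  have e := relIndex_inf_mul_relIndex (⊥ : Subgroup G) K H
  rw [relIndex_bot_left, bot_inf_eq, relIndex_bot_left, mul_comm, inf_comm] at e
  exact e.symm

theorem card_sup_comm [Finite G] {X D : Subgroup G} (h : X ≤ centralizer (D : Set G)) :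
    Nat.card (X ⊔ D : Subgroup G) * Nat.card (X ⊓ D : Subgroup G) = Nat.card X * Nat.card D := by
  have hn : X ≤ normalizer (D : Set G) := h.trans (cent_norm D)
  have hKn : (D.subgroupOf (D ⊔ X)).Normal :=
    normal_subgroupOf_of_le_normalizer (sup_le le_normalizer hn)
  have h1 := relIndex_sup_left (X.subgroupOf (D ⊔ X)) (D.subgroupOf (D ⊔ X))
  rw [← Subgroup.subgroupOf_sup le_sup_left le_sup_right, Subgroup.subgroupOf_self,
    Subgroup.relIndex_subgroupOf le_sup_right, relIndex_top_right] at h1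
  have h2 : D.relIndex (D ⊔ X) = D.relIndex X := h1
  have h3 := card_eq_relIndex D (D ⊔ X)
  have h4 := card_eq_relIndex D X
  have h5 : (D ⊔ X) ⊓ D = D := inf_eq_right.2 le_sup_left
  rw [h5, h2] at h3
  rw [sup_comm X D, h3, h4]
  ring

theorem elem_sup {X D : Subgroup G} (hX : IsElementaryAbelian 2 X) (hD : IsElementaryAbelian 2 D)
    (h : X ≤ centralizer (D : Set G)) : IsElementaryAbelian 2 (X ⊔ D : Subgroup G) := by
  rw [isElementaryAbelian_iff] at *
  have hc : ∀ x ∈ X, ∀ d ∈ D, x * d = d * x := fun x hx d hd => (mem_centralizer_iff.1 (h hx) d hd).symm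
  constructor
  · intro x hx y hy
    obtain ⟨a, ha, d, hd, rfl⟩ := mem_sup_comm h hx
    obtain ⟨b, hb, e, he, rfl⟩ := mem_sup_comm h hy
    calc a * d * (b * e) = a * (d * b) * e := by group
      _ = a * (b * d) * e := by rw [hc b hb d hd]
      _ = (a * b) * (d * e) := by group
      _ = (b * a) * (e * d) := by rw [hX.1 a ha b hb, hD.1 d hd e he]
      _ = b * (a * e) * d := by group
      _ = b * (e * a) * d := by rw [hc a ha e he]
      _ = b * e * (a * d) := by group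
  · intro x hx
    obtain ⟨a, ha, d, hd, rfl⟩ := mem_sup_comm h hx
    rw [(show Commute a d from hc a ha d hd).mul_pow, hX.2 a ha, hD.2 d hd, one_mul]

/-- `|W D : K ∩ W D| ≤ |D : K ∩ D|` for `W ≤ K`. -/
theorem relIndex_sup_le [Finite G] {W D K : Subgroup G} (hWD : W ≤ centralizer (D : Set G)) (hWK : W ≤ K) :
    K.relIndex (W ⊔ D) ≤ K.relIndex D := by
  have h1 := card_sup_comm hWD
  have h2 := card_sup_comm (X := W) (D := D ⊓ K)
    (hWD.trans (centralizer_le (by exact_mod_cast (inf_le_left : D ⊓ K ≤ D))))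
  have h3 : W ⊓ (D ⊓ K) = W ⊓ D := by rw [← inf_assoc, inf_eq_left]; exact inf_le_left.trans hWK
  rw [h3] at h2
  have h4 := card_eq_relIndex K (W ⊔ D)
  have h5 := card_eq_relIndex K D
  have h6 : Nat.card (W ⊔ (D ⊓ K) : Subgroup G) ≤ Nat.card ↥((W ⊔ D) ⊓ K) :=
    Subgroup.card_le_of_le (le_inf (sup_le_sup_left inf_le_left _) (sup_le hWK inf_le_right))
  have hi : 0 < Nat.card (W ⊓ D : Subgroup G) := Nat.card_pos
  have ha : 0 < Nat.card W := Nat.card_pos
  have hk : 0 < Nat.card ↥(D ⊓ K) := Nat.card_pos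
  set r := K.relIndex (W ⊔ D)
  set c := K.relIndex D
  have h7 : r * (Nat.card W * Nat.card ↥(D ⊓ K)) ≤ c * (Nat.card W * Nat.card ↥(D ⊓ K)) := by
    calc r * (Nat.card W * Nat.card ↥(D ⊓ K))
        = r * (Nat.card (W ⊔ (D ⊓ K) : Subgroup G) * Nat.card (W ⊓ D : Subgroup G)) := by rw [h2]
      _ ≤ r * (Nat.card ↥((W ⊔ D) ⊓ K) * Nat.card (W ⊓ D : Subgroup G)) := by gcongr
      _ = (r * Nat.card ↥((W ⊔ D) ⊓ K)) * Nat.card (W ⊓ D : Subgroup G) := by ring
      _ = Nat.card W * Nat.card D := by rw [← h4, h1]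
      _ = c * (Nat.card W * Nat.card ↥(D ⊓ K)) := by rw [h5]; ring
  exact Nat.le_of_mul_le_mul_right h7 (Nat.mul_pos ha hk)

/-! ### `AA B` -/

theorem AA.mem_of_comm [Finite G] {B A : Subgroup G} (hA : A ∈ AA B) {x : G} (hx : x ∈ B) (hx2 : x ^ 2 = 1)
    (hc : ∀ a ∈ A, a * x = x * a) : x ∈ A :=
  IsMaxIn.mem_of_comm (T := B) ⟨hA.2.1, hA.1, fun B' h1 h2 => hA.2.2 B' h2 h1⟩ hx hx2 hc

/-- `|Y : C_Y(A)| ≤ |A : C_A(Y)|` for `A ∈ AA B` and every elementary abelian `Y ≤ B`. -/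
theorem off_le [Finite G] {B A Y : Subgroup G} (hA : A ∈ AA B) (hY : IsElementaryAbelian 2 Y) (hYB : Y ≤ B) :
    cidx Y A ≤ cidx A Y := by
  have hc : Y ≤ centralizer ((A ⊓ centralizer (Y : Set G) : Subgroup G) : Set G) := by
    rw [Subgroup.le_centralizer_iff]; exact inf_le_right
  have h1 := card_sup_comm hc
  have h2 : Nat.card (Y ⊔ (A ⊓ centralizer (Y : Set G)) : Subgroup G) ≤ Nat.card A :=
    hA.2.2 _ (elem_sup hY (isElementaryAbelian_mono hA.1 inf_le_left) hc)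
      (sup_le hYB (inf_le_left.trans hA.2.1))
  have h3 : Nat.card (Y ⊓ (A ⊓ centralizer (Y : Set G)) : Subgroup G) ≤
      Nat.card ↥(Y ⊓ centralizer (A : Set G)) := by
    refine Subgroup.card_le_of_le (inf_le_inf_left _ ?_)
    have h4 : A ≤ centralizer (A : Set G) := fun a ha =>
      mem_centralizer_iff.2 fun b hb => (isElementaryAbelian_iff.1 hA.1).1 b hb a ha
    exact inf_le_left.trans h4
  have h5 := card_eq_relIndex (centralizer (A : Set G)) Y
  have h6 := card_eq_relIndex (centralizer (Y : Set G)) A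
  have ha : 0 < Nat.card ↥(A ⊓ centralizer (Y : Set G)) := Nat.card_pos
  have hb : 0 < Nat.card ↥(Y ⊓ centralizer (A : Set G)) := Nat.card_pos
  change (centralizer (A : Set G)).relIndex Y ≤ (centralizer (Y : Set G)).relIndex A
  set r := (centralizer (A : Set G)).relIndex Y
  set c := (centralizer (Y : Set G)).relIndex A
  have h7 : r * (Nat.card ↥(A ⊓ centralizer (Y : Set G)) * Nat.card ↥(Y ⊓ centralizer (A : Set G))) ≤
      c * (Nat.card ↥(A ⊓ centralizer (Y : Set G)) * Nat.card ↥(Y ⊓ centralizer (A : Set G))) := by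
    calc r * (Nat.card ↥(A ⊓ centralizer (Y : Set G)) * Nat.card ↥(Y ⊓ centralizer (A : Set G)))
        = (r * Nat.card ↥(Y ⊓ centralizer (A : Set G))) * Nat.card ↥(A ⊓ centralizer (Y : Set G)) := by ring
      _ = Nat.card (Y ⊔ (A ⊓ centralizer (Y : Set G)) : Subgroup G) *
          Nat.card (Y ⊓ (A ⊓ centralizer (Y : Set G)) : Subgroup G) := by rw [← h5, h1]
      _ ≤ Nat.card A * Nat.card ↥(Y ⊓ centralizer (A : Set G)) := Nat.mul_le_mul h2 h3
      _ = c * (Nat.card ↥(A ⊓ centralizer (Y : Set G)) * Nat.card ↥(Y ⊓ centralizer (A : Set G))) := by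
          rw [h6]; ring
  exact Nat.le_of_mul_le_mul_right h7 (Nat.mul_pos ha hb)

/-- `B` acts on `W` as the root group of `SL₂(q)` with centre `Z`; the members of `AA S` act trivially or as
the full root group. -/
structure Root (S B W Z : Subgroup G) (q : ℕ) : Prop where
  BS : B ≤ S
  AB : ∀ A ∈ AA S, A ≤ B
  comm : W ≤ centralizer (W : Set G)
  sq : ∀ w ∈ W, w ^ 2 = 1
  WS : W ≤ S
  ZW : Z ≤ W
  cardZ : Nat.card Z = q
  cardW : Nat.card W = q * q
  norm : B ≤ normalizer (W : Set G)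
  cent : B ≤ centralizer (Z : Set G)
  fix : ∀ b ∈ B, b ∉ centralizer (W : Set G) → ∀ w ∈ W, b * w = w * b → w ∈ Z
  into : ∀ b ∈ B, ∀ w ∈ W, w * b * w⁻¹ * b⁻¹ ∈ Z
  onto : ∀ b ∈ B, b ∉ centralizer (W : Set G) → ∀ z ∈ Z, ∃ w ∈ W, w * b * w⁻¹ * b⁻¹ = z
  idx : (centralizer (W : Set G)).relIndex B ≤ q
  full : ∀ A ∈ AA S, ¬ A ≤ centralizer (W : Set G) → (centralizer (W : Set G)).relIndex A = q

namespace Root

variable {S B W Z A Y : Subgroup G} {q : ℕ}

theorem elem (R : Root S B W Z q) : IsElementaryAbelian 2 W :=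
  isElementaryAbelian_iff.2 ⟨fun _ ha b hb => (mem_centralizer_iff.1 (R.comm ha) b hb).symm, R.sq⟩

theorem qpos [Finite G] (R : Root S B W Z q) : 0 < q := by
  rw [← R.cardZ]; exact Nat.card_pos

theorem inf_cent (R : Root S B W Z q) (hA : A ≤ B) (hn : ¬ A ≤ centralizer (W : Set G)) :
    W ⊓ centralizer (A : Set G) = Z := by
  apply le_antisymm
  · rintro w ⟨hw, hc⟩
    obtain ⟨a, ha, hna⟩ := SetLike.not_le_iff_exists.1 hn
    exact R.fix a (hA ha) hna w hw (mem_centralizer_iff.1 hc a ha)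
  · refine le_inf R.ZW ?_
    rw [Subgroup.le_centralizer_iff]
    exact hA.trans R.cent

theorem inf_eq [Finite G] (R : Root S B W Z q) (hA : A ∈ AA S) (hn : ¬ A ≤ centralizer (W : Set G)) :
    W ⊓ A = Z := by
  apply le_antisymm
  · rw [← R.inf_cent (R.AB A hA) hn]
    refine inf_le_inf_left _ fun a ha =>
      mem_centralizer_iff.2 fun b hb => (isElementaryAbelian_iff.1 hA.1).1 b hb a ha
  · refine le_inf R.ZW fun z hz => AA.mem_of_comm hA (R.WS (R.ZW hz)) (R.sq z (R.ZW hz)) fun a ha => ?_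
    exact (mem_centralizer_iff.1 (R.cent (R.AB A hA ha)) z hz).symm

/-- `W C_A(W) ∈ AA S`. -/
theorem swap [Finite G] (R : Root S B W Z q) (hA : A ∈ AA S) (hn : ¬ A ≤ centralizer (W : Set G)) :
    W ⊔ (A ⊓ centralizer (W : Set G)) ∈ AA S := by
  have hc : W ≤ centralizer ((A ⊓ centralizer (W : Set G) : Subgroup G) : Set G) := by
    rw [Subgroup.le_centralizer_iff]; exact inf_le_right
  have h1 := card_sup_comm hc
  have h2 : W ⊓ (A ⊓ centralizer (W : Set G)) = Z := by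
    rw [← inf_assoc, R.inf_eq hA hn, inf_eq_left]
    exact R.ZW.trans R.comm
  have h3 := card_eq_relIndex (centralizer (W : Set G)) A
  rw [R.full A hA hn] at h3
  rw [h2, R.cardZ, R.cardW] at h1
  have h4 : Nat.card (W ⊔ (A ⊓ centralizer (W : Set G)) : Subgroup G) = Nat.card A := by
    apply Nat.eq_of_mul_eq_mul_right R.qpos
    rw [h1, h3]; ring
  refine ⟨elem_sup R.elem (isElementaryAbelian_mono hA.1 inf_le_left) hc,
    sup_le R.WS (inf_le_left.trans hA.2.1), fun B' h5 h6 => ?_⟩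
  rw [h4]
  exact hA.2.2 B' h5 h6

end Root

/-- `A ∈ AA S` moves `Y` and `|A : C_A(Y)|` is minimal. -/
structure MinA (S Y A : Subgroup G) : Prop where
  mem : A ∈ AA S
  ne : ¬ A ≤ centralizer (Y : Set G)
  min : ∀ A' ∈ AA S, ¬ A' ≤ centralizer (Y : Set G) → cidx A Y ≤ cidx A' Y

theorem MinA.exists [Finite G] {S Y A' : Subgroup G} (hA : A' ∈ AA S) (hn : ¬ A' ≤ centralizer (Y : Set G)) :
    ∃ A, MinA S Y A := by
  obtain ⟨A, ⟨h1, h2⟩, h3⟩ := Set.exists_min_image {A : Subgroup G | A ∈ AA S ∧ ¬ A ≤ centralizer (Y : Set G)}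
    (fun A => cidx A Y) (Set.toFinite _) ⟨A', hA, hn⟩
  exact ⟨A, h1, h2, fun A'' h4 h5 => h3 A'' ⟨h4, h5⟩⟩

namespace MinA

variable {S B W Z A Y : Subgroup G} {q : ℕ}

/-- A minimal `A` which moves the root module `W ≤ Y` has `C_A(W) ≤ C(Y)`. -/
theorem red [Finite G] (hA : MinA S Y A) (R : Root S B W Z q) (hq : 2 ≤ q) (hWY : W ≤ Y)
    (hY : Y ≤ centralizer (Y : Set G)) (hn : ¬ A ≤ centralizer (W : Set G)) :
    A ⊓ centralizer (W : Set G) ≤ centralizer (Y : Set G) := by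
  by_contra h
  have h1 := R.swap hA.mem hn
  have h2 := hA.min _ h1 fun h3 => h (le_sup_right.trans h3)
  have h3 : cidx (W ⊔ (A ⊓ centralizer (W : Set G))) Y ≤ cidx (A ⊓ centralizer (W : Set G)) Y :=
    relIndex_sup_le (by rw [Subgroup.le_centralizer_iff]; exact inf_le_right) (hWY.trans hY)
  have h4 := cidx_chain (A := A) (B := Y) (E := A ⊓ centralizer (W : Set G)) inf_le_left
    (inf_le_inf_left _ (centralizer_le (by exact_mod_cast hWY)))
  rw [cidx_inf, show cidx A W = q from R.full A hA.mem hn] at h4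
  have h5 := cidx_pos (A ⊓ centralizer (W : Set G)) Y
  nlinarith

theorem cidx_eq [Finite G] (hA : MinA S Y A) (R : Root S B W Z q) (hq : 2 ≤ q) (hWY : W ≤ Y)
    (hY : Y ≤ centralizer (Y : Set G)) (hn : ¬ A ≤ centralizer (W : Set G)) : cidx A Y = q := by
  rw [← R.full A hA.mem hn, ← cidx_inf A Y]
  change _ = cidx A W
  rw [← cidx_inf A W]
  congr 1
  exact le_antisymm (inf_le_inf_left _ (centralizer_le (by exact_mod_cast hWY)))
    (le_inf inf_le_left (hA.red R hq hWY hY hn))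

/-- `Y = W C_Y(A)`. -/
theorem split [Finite G] (hA : MinA S Y A) (R : Root S B W Z q) (hq : 2 ≤ q) (hWY : W ≤ Y)
    (hY : IsElementaryAbelian 2 Y) (hYB : Y ≤ S) (hn : ¬ A ≤ centralizer (W : Set G)) {y : G} (hy : y ∈ Y) :
    ∃ w ∈ W, ∃ c ∈ Y, (∀ a ∈ A, a * c = c * a) ∧ y = w * c := by
  have hYc : Y ≤ centralizer (Y : Set G) := fun y hy =>
    mem_centralizer_iff.2 fun b hb => (isElementaryAbelian_iff.1 hY).1 b hb y hy
  have h1 := off_le hA.mem hY hYB
  rw [hA.cidx_eq R hq hWY hYc hn] at h1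
  set D : Subgroup G := Y ⊓ centralizer (A : Set G) with hD
  have hWD : W ≤ centralizer (D : Set G) :=
    (hWY.trans hYc).trans (centralizer_le (by exact_mod_cast (inf_le_left : D ≤ Y)))
  have h2 := card_sup_comm hWD
  have h3 : W ⊓ D = Z := by
    rw [hD, ← inf_assoc, inf_eq_left.2 hWY, R.inf_cent (R.AB A hA.mem) hn]
  rw [h3, R.cardZ, R.cardW] at h2
  have h4 := card_eq_relIndex (centralizer (A : Set G)) Y
  have h5 : Nat.card Y ≤ Nat.card (W ⊔ D : Subgroup G) := by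
    apply Nat.le_of_mul_le_mul_right _ R.qpos
    rw [h2, h4, mul_assoc]
    have : (centralizer (A : Set G)).relIndex Y ≤ q := h1
    calc (centralizer (A : Set G)).relIndex Y * (Nat.card ↥(Y ⊓ centralizer (A : Set G)) * q)
        ≤ q * (Nat.card ↥(Y ⊓ centralizer (A : Set G)) * q) := by gcongr
      _ = q * q * Nat.card D := by rw [hD]; ring
  have h6 : W ⊔ D = Y := Subgroup.eq_of_le_of_card_ge (sup_le hWY inf_le_left) h5
  rw [← h6] at hy
  obtain ⟨w, hw, c, hc, e⟩ := mem_sup_comm hWD hy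
  exact ⟨w, hw, c, hc.1, fun a ha => mem_centralizer_iff.1 hc.2 a ha, e⟩

/-- `[y, a] ∈ Z`. -/
theorem comm_mem [Finite G] (hA : MinA S Y A) (R : Root S B W Z q) (hq : 2 ≤ q) (hWY : W ≤ Y)
    (hY : IsElementaryAbelian 2 Y) (hYB : Y ≤ S) (hn : ¬ A ≤ centralizer (W : Set G)) {y a : G} (hy : y ∈ Y)
    (ha : a ∈ A) : y * a * y⁻¹ * a⁻¹ ∈ Z := by
  obtain ⟨w, hw, c, -, hc, rfl⟩ := hA.split R hq hWY hY hYB hn hy
  have h1 : w * c * a * (w * c)⁻¹ * a⁻¹ = w * a * w⁻¹ * a⁻¹ := by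
    calc w * c * a * (w * c)⁻¹ * a⁻¹ = w * (c * a) * c⁻¹ * w⁻¹ * a⁻¹ := by group
      _ = w * (a * c) * c⁻¹ * w⁻¹ * a⁻¹ := by rw [hc a ha]
      _ = w * a * w⁻¹ * a⁻¹ := by group
  rw [h1]
  exact R.into a (R.AB A hA.mem ha) w hw

end MinA

theorem relIndex_cj (g : G) (A B : Subgroup G) : (cj g A).relIndex (cj g B) = A.relIndex B :=
  relIndex_map_map_of_injective _ _ (MulAut.conj g).injective

theorem cidx_cj {g : G} {A Y : Subgroup G} (hY : cj g Y = Y) : cidx (cj g A) Y = cidx A Y := by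
  change (centralizer (Y : Set G)).relIndex (cj g A) = (centralizer (Y : Set G)).relIndex A
  rw [← relIndex_cj g (centralizer (Y : Set G)) A, cj_centralizer, hY]

theorem cj_mem_AA' {g : G} {A B : Subgroup G} (hA : A ∈ AA B) (hg : cj g A ≤ B) : cj g A ∈ AA B :=
  ⟨isElementaryAbelian_cj g hA.1, hg, fun B' h1 h2 => by rw [card_cj]; exact hA.2.2 B' h1 h2⟩

theorem cj_le_cent {g : G} {A Y : Subgroup G} :
    cj g A ≤ centralizer (Y : Set G) ↔ A ≤ centralizer ((cj g⁻¹ Y : Subgroup G) : Set G) := by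
  rw [cj_le_iff, cj_centralizer]

theorem MinA.cj {S Y A : Subgroup G} (hA : MinA S Y A) {g : G} (hY : ChoiceBase.cj g Y = Y)
    (hg : ChoiceBase.cj g A ≤ S) : MinA S Y (ChoiceBase.cj g A) := by
  refine ⟨cj_mem_AA' hA.mem hg, fun h => hA.ne ?_, fun A' h1 h2 => ?_⟩
  · rw [cj_le_cent] at h
    have : ChoiceBase.cj g⁻¹ Y = Y := by
      conv_lhs => rw [← hY]
      rw [cj_inv_cj]
    rwa [this] at h
  · rw [cidx_cj hY]
    exact hA.min A' h1 h2

/-! ### The configuration -/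

/-- `V ⟨W^P⟩`. -/
def yy (P V W : Subgroup G) : Subgroup G := V ⊔ ⨆ x : P, cj (x : G) W

/-- The configuration: see the header of the file. -/
structure Cfg (S B P Q V W Z : Subgroup G) (q' : ℕ) : Prop where
  root : Root S B W Z q'
  two : 2 ≤ q'
  BP : B ≤ P
  PQ : P ≤ normalizer (Q : Set G)
  PV : P ≤ normalizer (V : Set G)
  QB : Q ≤ B
  QV : Q ≤ centralizer (V : Set G)
  VV : V ≤ centralizer (V : Set G)
  Vsq : ∀ v ∈ V, v ^ 2 = 1
  VS : V ≤ S
  WV : W ≤ centralizer (V : Set G)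
  WS : ∀ x ∈ P, cj x W ≤ S
  ZV : Z ≤ V
  com : ∀ x ∈ P, cj x W ≤ centralizer (W : Set G)

namespace Cfg

variable {S B P Q V W Z A : Subgroup G} {q q' : ℕ} (h : Cfg S B P Q V W Z q')

theorem V_le_yy : V ≤ yy P V W := le_sup_left

theorem cjW_le_yy {x : G} (hx : x ∈ P) : cj x W ≤ yy P V W :=
  (le_iSup (fun x : P => cj (x : G) W) ⟨x, hx⟩).trans le_sup_right

theorem W_le_yy : W ≤ yy P V W := by
  have := cjW_le_yy (V := V) (W := W) (one_mem P)
  rwa [cj_one] at this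

theorem yy_le_of {K : Subgroup G} (hV : V ≤ K) (hW : ∀ x ∈ P, cj x W ≤ K) : yy P V W ≤ K :=
  sup_le hV (iSup_le fun x => hW x x.2)

include h

theorem cjQ {x : G} (hx : x ∈ P) : cj x Q = Q := cj_eq_of_mem_normalizer (h.PQ hx)

theorem cjV {x : G} (hx : x ∈ P) : cj x V = V := cj_eq_of_mem_normalizer (h.PV hx)

theorem cjWV {x : G} (hx : x ∈ P) : cj x W ≤ centralizer (V : Set G) := by
  have h1 := cj_mono x h.WV
  rwa [cj_centralizer, h.cjV hx] at h1

theorem yy_le_S : yy P V W ≤ S := yy_le_of h.VS fun _ hx => h.WS _ hx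

theorem yy_le_cV : yy P V W ≤ centralizer (V : Set G) := yy_le_of h.VV fun _ hx => h.cjWV hx

theorem cj_yy_le {x : G} (hx : x ∈ P) : cj x (yy P V W) ≤ yy P V W := by
  rw [cj_le_iff]
  refine yy_le_of ?_ fun y hy => ?_
  · rw [← cj_le_iff]
    exact (h.cjV hx).le.trans V_le_yy
  · rw [← cj_le_iff, cj_cj]
    exact cjW_le_yy (P.mul_mem hx hy)

theorem cj_yy {x : G} (hx : x ∈ P) : cj x (yy P V W) = yy P V W := by
  refine le_antisymm (h.cj_yy_le hx) ?_
  have := h.cj_yy_le (P.inv_mem hx)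
  rwa [cj_le_iff, inv_inv] at this

theorem comW {x y : G} (hx : x ∈ P) (hy : y ∈ P) : cj y W ≤ centralizer ((cj x W : Subgroup G) : Set G) := by
  have h1 := h.com (x⁻¹ * y) (P.mul_mem (P.inv_mem hx) hy)
  have h2 := cj_mono x h1
  rwa [cj_cj, cj_centralizer, mul_inv_cancel_left] at h2

theorem yy_comm : yy P V W ≤ centralizer (yy P V W : Set G) := by
  refine yy_le_of ?_ fun x hx => ?_
  · rw [Subgroup.le_centralizer_iff]
    exact h.yy_le_cV
  · rw [Subgroup.le_centralizer_iff]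
    refine yy_le_of ?_ fun y hy => h.comW hx hy
    rw [Subgroup.le_centralizer_iff]
    exact h.cjWV hx

theorem yy_elem : IsElementaryAbelian 2 (yy P V W) := by
  have hc : ∀ a ∈ yy P V W, ∀ b ∈ yy P V W, a * b = b * a := fun a ha b hb =>
    (mem_centralizer_iff.1 (h.yy_comm ha) b hb).symm
  refine isElementaryAbelian_iff.2 ⟨hc, ?_⟩
  let E : Subgroup G :=
    { carrier := {y | y ∈ yy P V W ∧ y ^ 2 = 1}
      mul_mem' := by
        rintro a b ⟨ha, ha2⟩ ⟨hb, hb2⟩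
        exact ⟨mul_mem ha hb, by rw [(show Commute a b from hc a ha b hb).mul_pow, ha2, hb2, one_mul]⟩
      one_mem' := ⟨one_mem _, one_pow _⟩
      inv_mem' := by
        rintro a ⟨ha, ha2⟩
        exact ⟨inv_mem ha, by rw [inv_pow, ha2, inv_one]⟩ }
  have hE : yy P V W ≤ E := by
    refine yy_le_of (fun v hv => ⟨V_le_yy hv, h.Vsq v hv⟩) fun x hx w hw => ⟨cjW_le_yy hx hw, ?_⟩
    obtain ⟨w, hw, rfl⟩ := hw
    rw [← map_pow, h.root.sq w hw, map_one]
  exact fun y hy => (hE hy).2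

/-- **Case (I).** -/
theorem caseOne [Finite G] (hA : MinA S (yy P V W) A) {Vj Zj : Subgroup G} (hj : Root S B Vj Zj q) (hq : 2 ≤ q)
    (hV : Vj ≤ V) (hAj : ¬ A ≤ centralizer (Vj : Set G)) {x : G} (hx : x ∈ P)
    (hxV : x ∈ normalizer (Vj : Set G)) (hxZ : Zj ⊓ cj x Zj = ⊥) {a : G} (ha : a ∈ Q)
    (haW : a ∉ centralizer (W : Set G)) : Z ≤ centralizer ((cj x A : Subgroup G) : Set G) := by
  have hVY : Vj ≤ yy P V W := hV.trans V_le_yy
  have hZY : Z ≤ yy P V W := h.root.ZW.trans W_le_yy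
  intro z hz
  rw [mem_centralizer_iff]
  intro e he
  have he' := mem_cj.1 he
  -- `[y, e] ∈ Zj^x` for all `y ∈ Y`
  have key : ∀ y ∈ yy P V W, y * e * y⁻¹ * e⁻¹ ∈ cj x Zj := by
    intro y hy
    rw [mem_cj]
    have hy' : x⁻¹ * y * x ∈ yy P V W := by
      rw [← mem_cj, h.cj_yy hx]; exact hy
    have := hA.comm_mem hj hq hVY h.yy_elem h.yy_le_S hAj hy' he'
    have e1 : x⁻¹ * (y * e * y⁻¹ * e⁻¹) * x =
        x⁻¹ * y * x * (x⁻¹ * e * x) * (x⁻¹ * y * x)⁻¹ * (x⁻¹ * e * x)⁻¹ := by group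
    rw [e1]; exact this
  have hcjZ : cj x Zj ≤ Vj := (cj_mono x hj.ZW).trans (cj_eq_of_mem_normalizer hxV).le
  have heP : e ∈ P := by
    have h1 : cj x A ≤ P := by
      rw [cj_le_iff]
      refine ((h.root.AB A hA.mem).trans h.BP).trans ?_
      intro y hy
      rw [mem_cj]
      exact P.mul_mem (P.mul_mem (P.inv_mem (P.inv_mem hx)) hy) (P.inv_mem hx)
    exact h1 he
  -- `e` normalises `Z`
  have hnorm : e * z * e⁻¹ ∈ Z := by
    obtain ⟨w, hw, hwz⟩ := h.root.onto a (h.QB ha) haW z hz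
    have ha' : e * a * e⁻¹ ∈ Q := by
      have : e * a * e⁻¹ ∈ cj e Q := by
        rw [mem_cj]
        have : e⁻¹ * (e * a * e⁻¹) * e = a := by group
        rw [this]; exact ha
      rwa [h.cjQ heP] at this
    set a' := e * a * e⁻¹ with ha'def
    set u := e * w * e⁻¹ * w⁻¹ with hudef
    have hu : u ∈ V := by
      have h1 := key w (W_le_yy hw)
      have h2 : u = (w * e * w⁻¹ * e⁻¹)⁻¹ := by rw [hudef]; group
      rw [h2]
      exact V.inv_mem (hV (hcjZ h1))
    set t := w * a' * w⁻¹ * a'⁻¹ with htdef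
    have ht : t ∈ Z := h.root.into a' (h.QB ha') w hw
    have hc1 : a' * u⁻¹ = u⁻¹ * a' := (mem_centralizer_iff.1 (h.QV ha') _ (V.inv_mem hu)).symm
    have hc2 : u * t = t * u := mem_centralizer_iff.1 (h.VV (h.ZV ht)) _ hu
    have h3 : e * z * e⁻¹ = t := by
      rw [← hwz]
      calc e * (w * a * w⁻¹ * a⁻¹) * e⁻¹ = u * w * a' * w⁻¹ * (u⁻¹ * a'⁻¹) := by
            rw [hudef, ha'def]; group
        _ = u * w * a' * w⁻¹ * (a'⁻¹ * (a' * u⁻¹) * a'⁻¹) := by group
        _ = u * w * a' * w⁻¹ * (a'⁻¹ * (u⁻¹ * a') * a'⁻¹) := by rw [hc1]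
        _ = u * t * u⁻¹ := by rw [htdef]; group
        _ = t := by rw [hc2]; group
    rw [h3]; exact ht
  have hk1 := key z (hZY hz)
  have hk2 : z * e * z⁻¹ * e⁻¹ ∈ Z := by
    have : z * e * z⁻¹ * e⁻¹ = z * (e * z * e⁻¹)⁻¹ := by group
    rw [this]
    exact Z.mul_mem hz (Z.inv_mem hnorm)
  have hk3 : z * e * z⁻¹ * e⁻¹ ∈ Zj := by
    rw [← hj.inf_cent (hj.AB A hA.mem) hAj]
    refine ⟨hcjZ hk1, ?_⟩
    have : Z ≤ centralizer (A : Set G) := by
      rw [Subgroup.le_centralizer_iff]; exact (h.root.AB A hA.mem).trans h.root.cent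
    exact this hk2
  have hk4 : z * e * z⁻¹ * e⁻¹ ∈ Zj ⊓ cj x Zj := ⟨hk3, hk1⟩
  rw [hxZ, mem_bot] at hk4
  calc e * z = (z * e * z⁻¹ * e⁻¹)⁻¹ * (z * e) := by group
    _ = z * e := by rw [hk4]; group

/-- Conjugates of a minimal `A ≤ Q` which moves `W`. -/
theorem le_cent [Finite G] (hA : MinA S (yy P V W) A) (hAQ : A ≤ Q) (hAW : ¬ A ≤ centralizer (W : Set G)) {g : G}
    (hg : g ∈ P) (hgZ : g ∉ normalizer (Z : Set G)) : cj g A ≤ centralizer (W : Set G) := by
  intro c hc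
  by_contra hcW
  apply hgZ
  have hcQ : c ∈ Q := ((cj_mono g hAQ).trans (h.cjQ hg).le) hc
  have hc' := mem_cj.1 hc
  have hle : Z ≤ cj g Z := by
    intro z hz
    obtain ⟨w, hw, rfl⟩ := h.root.onto c (h.QB hcQ) hcW z hz
    rw [mem_cj]
    have hw' : g⁻¹ * w * g ∈ yy P V W := by
      rw [← mem_cj, h.cj_yy hg]; exact W_le_yy hw
    have := hA.comm_mem h.root h.two W_le_yy h.yy_elem h.yy_le_S hAW hw' hc'
    have e1 : g⁻¹ * (w * c * w⁻¹ * c⁻¹) * g =
        g⁻¹ * w * g * (g⁻¹ * c * g) * (g⁻¹ * w * g)⁻¹ * (g⁻¹ * c * g)⁻¹ := by group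
    rw [e1]; exact this
  have heq : Z = cj g Z := Subgroup.eq_of_le_of_card_ge hle (card_cj g Z).le
  exact mem_normalizer_iff_cj.2 heq.symm

omit h in
/-- Representatives of the nontrivial cosets of `A' ∩ Q` in `A'`. -/
theorem exists_reps [Finite G] {A' : Subgroup G} (hidx : Q.relIndex A' = q) : ∃ s : Finset G, s.card = q - 1 ∧
    (∀ a ∈ s, a ∈ A' ∧ a ∉ Q) ∧ ∀ a ∈ s, ∀ b ∈ s, a ≠ b → a⁻¹ * b ∉ Q := by
  classical
  have : Fintype (A' ⧸ Q.subgroupOf A') := Fintype.ofFinite _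
  let one : A' ⧸ Q.subgroupOf A' := QuotientGroup.mk 1
  have hinj : Function.Injective fun c : A' ⧸ Q.subgroupOf A' => ((Quotient.out c : A') : G) := by
    intro c d hcd
    have h1 : (Quotient.out c : A') = Quotient.out d := Subtype.ext hcd
    rw [← Quotient.out_eq c, ← Quotient.out_eq d, h1]
  have hmem : ∀ c d : A' ⧸ Q.subgroupOf A', ((Quotient.out c : A') : G)⁻¹ * ((Quotient.out d : A') : G) ∈ Q →
      c = d := by
    intro c d hcd
    have h1 : (Quotient.out c)⁻¹ * (Quotient.out d) ∈ Q.subgroupOf A' := by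
      rw [mem_subgroupOf]; simpa using hcd
    have h2 := QuotientGroup.eq.2 h1
    have e1 : (QuotientGroup.mk (Quotient.out c) : A' ⧸ Q.subgroupOf A') = c := Quotient.out_eq c
    have e2 : (QuotientGroup.mk (Quotient.out d) : A' ⧸ Q.subgroupOf A') = d := Quotient.out_eq d
    rw [e1, e2] at h2
    exact h2
  refine ⟨((Finset.univ.erase one).image fun c => ((Quotient.out c : A') : G)), ?_, ?_, ?_⟩
  · refine (Finset.card_image_of_injective _ hinj).trans ?_
    rw [Finset.card_erase_of_mem (Finset.mem_univ _), Finset.card_univ, ← Nat.card_eq_fintype_card, ← hidx]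
    rfl
  · intro a ha
    rw [Finset.mem_image] at ha
    obtain ⟨c, hc, rfl⟩ := ha
    refine ⟨(Quotient.out c).2, fun hQ => ?_⟩
    apply (Finset.mem_erase.1 hc).1
    have h1 : (1 : A')⁻¹ * (Quotient.out c) ∈ Q.subgroupOf A' := by
      rw [mem_subgroupOf]; simpa using hQ
    have h2 := QuotientGroup.eq.2 h1
    have e1 : (QuotientGroup.mk (Quotient.out c) : A' ⧸ Q.subgroupOf A') = c := Quotient.out_eq c
    rw [e1] at h2
    exact h2.symm
  · intro a ha b hb hab hQ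
    rw [Finset.mem_image] at ha hb
    obtain ⟨c, hc, rfl⟩ := ha
    obtain ⟨d, hd, rfl⟩ := hb
    exact hab (by rw [hmem c d hQ])

/-- **Case (II) is impossible for `q ≥ 3`**: not all minimal `A` are in `Q`. -/
theorem exists_min [Finite G] {A' : Subgroup G} (hA' : A' ∈ AA S) (hidx : Q.relIndex A' = q) (hq : 3 ≤ q)
    (hV : q ≤ cidx V A') {x : G} (hx : x ∈ P)
    (hmove : ∀ a ∈ A', a ∉ Q → x⁻¹ * a * x ∉ normalizer (Z : Set G)) :
    ∃ A, MinA S (yy P V W) A ∧ ¬ A ≤ Q := by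
  by_contra hcon
  push Not at hcon
  have hA'P : A' ≤ P := (h.root.AB A' hA').trans h.BP
  -- a minimal `A₁ ≤ Q` which moves `W`
  have hn : ¬ A' ≤ centralizer (yy P V W : Set G) := by
    intro hc
    have h1 : V ≤ centralizer (A' : Set G) := by
      rw [Subgroup.le_centralizer_iff]
      exact hc.trans (centralizer_le (by exact_mod_cast (V_le_yy : V ≤ yy P V W)))
    rw [cidx_eq_one_iff.2 h1] at hV
    omega
  obtain ⟨A, hA⟩ := MinA.exists hA' hn
  have hAQ := hcon A hA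
  obtain ⟨g, hg, hgA⟩ : ∃ g ∈ P, ¬ A ≤ centralizer ((cj g W : Subgroup G) : Set G) := by
    by_contra hc
    push Not at hc
    apply hA.ne
    rw [Subgroup.le_centralizer_iff]
    refine yy_le_of ?_ fun y hy => ?_
    · rw [Subgroup.le_centralizer_iff]; exact hAQ.trans h.QV
    · rw [Subgroup.le_centralizer_iff]; exact hc y hy
  have hgi : g⁻¹ ∈ P := P.inv_mem hg
  obtain ⟨A₁, hA₁, hA₁Q, hA₁W⟩ : ∃ A₁, MinA S (yy P V W) A₁ ∧ A₁ ≤ Q ∧ ¬ A₁ ≤ centralizer (W : Set G) := by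
    have h1 : cj g⁻¹ A ≤ Q := (cj_mono _ hAQ).trans (h.cjQ hgi).le
    refine ⟨cj g⁻¹ A, hA.cj (h.cj_yy hgi) ((h1.trans h.QB).trans h.root.BS), h1, ?_⟩
    rw [cj_le_cent, inv_inv]
    exact hgA
  clear hA hAQ hgA hg hgi
  have hA'c : ∀ a ∈ A', ∀ b ∈ A', a * b = b * a := (isElementaryAbelian_iff.1 hA'.1).1
  -- the subgroups `D b`, `W b`, `Z b`
  have dQ : ∀ b ∈ A', cj (b * x) A₁ ≤ Q := fun b hb =>
    (cj_mono _ hA₁Q).trans (h.cjQ (P.mul_mem (hA'P hb) hx)).le
  have dV : ∀ b ∈ A', cj (b * x) A₁ ≤ centralizer (V : Set G) := fun b hb => (dQ b hb).trans h.QV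
  have dW : ∀ a ∈ A', ∀ b ∈ A', a⁻¹ * b ∉ Q → cj (b * x) A₁ ≤ centralizer ((cj (a * x) W : Subgroup G) : Set G) := by
    intro a ha b hb hab
    have h1 : x⁻¹ * (a⁻¹ * b) * x ∈ P :=
      P.mul_mem (P.mul_mem (P.inv_mem hx) (P.mul_mem (P.inv_mem (hA'P ha)) (hA'P hb))) hx
    have h2 := h.le_cent hA₁ hA₁Q hA₁W h1 (hmove _ (A'.mul_mem (A'.inv_mem ha) hb) hab)
    have h3 := cj_mono (a * x) h2
    rw [cj_cj, cj_centralizer] at h3
    have e : a * x * (x⁻¹ * (a⁻¹ * b) * x) = b * x := by group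
    rwa [e] at h3
  have wD : ∀ b : G, cj (b * x) W ⊓ centralizer ((cj (b * x) A₁ : Subgroup G) : Set G) = cj (b * x) Z := by
    intro b
    rw [← cj_centralizer, ← cj_inf, h.root.inf_cent (h.root.AB A₁ hA₁.mem) hA₁W]
  have zV : ∀ b ∈ A', cj (b * x) Z ≤ V := fun b hb =>
    (cj_mono _ h.ZV).trans (h.cjV (P.mul_mem (hA'P hb) hx)).le
  have wY : ∀ b ∈ A', cj (b * x) W ≤ yy P V W := fun b hb => cjW_le_yy (P.mul_mem (hA'P hb) hx)
  obtain ⟨s, hs, hsA, hsn⟩ := exists_reps hidx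
  classical
  -- the products
  let H : Finset G → Subgroup G := fun t => V ⊔ ⨆ a ∈ t, cj (a * x) W
  have H_le : ∀ {t : Finset G} {K : Subgroup G}, V ≤ K → (∀ a ∈ t, cj (a * x) W ≤ K) → H t ≤ K :=
    fun h1 h2 => sup_le h1 (iSup₂_le h2)
  have V_le_H : ∀ t, V ≤ H t := fun t => le_sup_left
  have HY : ∀ t : Finset G, (∀ a ∈ t, a ∈ A') → H t ≤ yy P V W := fun t ht =>
    H_le V_le_yy fun a ha => wY a (ht a ha)
  have H_insert : ∀ (b : G) (t : Finset G), H (insert b t) = cj (b * x) W ⊔ H t := by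
    intro b t
    change V ⊔ ⨆ a ∈ insert b t, cj (a * x) W = cj (b * x) W ⊔ (V ⊔ ⨆ a ∈ t, cj (a * x) W)
    rw [Finset.iSup_insert, ← sup_assoc, ← sup_assoc, sup_comm V]
  have D_cent : ∀ (b : G) (t : Finset G), b ∈ A' → (∀ a ∈ t, a ∈ A') → (∀ a ∈ t, a⁻¹ * b ∉ Q) →
      H t ≤ centralizer ((cj (b * x) A₁ : Subgroup G) : Set G) := by
    intro b t hb ht hn
    refine H_le ?_ fun a ha => ?_
    · rw [Subgroup.le_centralizer_iff]; exact dV b hb
    · rw [Subgroup.le_centralizer_iff]; exact dW a (ht a ha) b hb (hn a ha)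
  -- the order of `H t`
  have hcard : ∀ t : Finset G, (∀ a ∈ t, a ∈ A') → (∀ a ∈ t, ∀ b ∈ t, a ≠ b → a⁻¹ * b ∉ Q) →
      Nat.card (H t) = Nat.card V * q' ^ t.card := by
    intro t
    induction t using Finset.induction_on with
    | empty =>
      intro _ _
      have : H ∅ = V := le_antisymm (H_le le_rfl (by simp)) (V_le_H _)
      rw [this]; simp
    | insert b t hbt ih =>
      intro ht hn
      have hb := ht b (Finset.mem_insert_self _ _)
      have ht' : ∀ a ∈ t, a ∈ A' := fun a ha => ht a (Finset.mem_insert_of_mem ha)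
      have ih' := ih ht' fun a ha c hc =>
        hn a (Finset.mem_insert_of_mem ha) c (Finset.mem_insert_of_mem hc)
      have h1 : H t ≤ centralizer ((cj (b * x) A₁ : Subgroup G) : Set G) :=
        D_cent b t hb ht' fun a ha => hn a (Finset.mem_insert_of_mem ha) b (Finset.mem_insert_self _ _)
          (by rintro rfl; exact hbt ha)
      have h2 : cj (b * x) W ⊓ H t = cj (b * x) Z := by
        apply le_antisymm
        · rw [← wD b]
          exact inf_le_inf_left _ h1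
        · exact le_inf (cj_mono _ h.root.ZW) ((zV b hb).trans (V_le_H t))
      have h3 : cj (b * x) W ≤ centralizer (H t : Set G) :=
        ((wY b hb).trans h.yy_comm).trans (centralizer_le (by exact_mod_cast HY t ht'))
      have h4 := card_sup_comm h3
      rw [h2, card_cj, card_cj, h.root.cardZ, h.root.cardW, ← H_insert] at h4
      apply Nat.eq_of_mul_eq_mul_right h.root.qpos
      rw [h4, ih', Finset.card_insert_of_notMem hbt, pow_succ]
      ring
  -- fixed points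
  have hfix : ∀ t : Finset G, (∀ a ∈ t, a ∈ A') → (∀ a ∈ t, ∀ b ∈ t, a ≠ b → a⁻¹ * b ∉ Q) →
      ∀ y ∈ H t, (∀ b ∈ t, y ∈ centralizer ((cj (b * x) A₁ : Subgroup G) : Set G)) → y ∈ V := by
    intro t
    induction t using Finset.induction_on with
    | empty =>
      intro _ _ y hy _
      have : H ∅ = V := le_antisymm (H_le le_rfl (by simp)) (V_le_H _)
      rwa [this] at hy
    | insert b t hbt ih =>
      intro ht hn y hy hyc
      have hb := ht b (Finset.mem_insert_self _ _)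
      have ht' : ∀ a ∈ t, a ∈ A' := fun a ha => ht a (Finset.mem_insert_of_mem ha)
      have h1 : H t ≤ centralizer ((cj (b * x) A₁ : Subgroup G) : Set G) :=
        D_cent b t hb ht' fun a ha => hn a (Finset.mem_insert_of_mem ha) b (Finset.mem_insert_self _ _)
          (by rintro rfl; exact hbt ha)
      have h3 : cj (b * x) W ≤ centralizer (H t : Set G) :=
        ((wY b hb).trans h.yy_comm).trans (centralizer_le (by exact_mod_cast HY t ht'))
      rw [H_insert] at hy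
      obtain ⟨w, hw, y', hy', rfl⟩ := mem_sup_comm h3 hy
      have hwV : w ∈ V := by
        apply zV b hb
        rw [← wD b]
        refine ⟨hw, ?_⟩
        have h4 := hyc b (Finset.mem_insert_self _ _)
        have h5 := h1 hy'
        have h6 := mul_mem h4 (inv_mem h5)
        rwa [mul_inv_cancel_right] at h6
      refine V.mul_mem hwV (ih ht' (fun a ha c hc =>
        hn a (Finset.mem_insert_of_mem ha) c (Finset.mem_insert_of_mem hc)) y' hy' fun c hc => ?_)
      have h4 := hyc c (Finset.mem_insert_of_mem hc)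
      have h5 : w ∈ centralizer ((cj (c * x) A₁ : Subgroup G) : Set G) := by
        have : V ≤ centralizer ((cj (c * x) A₁ : Subgroup G) : Set G) := by
          rw [Subgroup.le_centralizer_iff]; exact dV c (ht' c hc)
        exact this hwV
      have h6 := mul_mem (inv_mem h5) h4
      rwa [inv_mul_cancel_left] at h6
  have hsA' : ∀ a ∈ s, a ∈ A' := fun a ha => (hsA a ha).1
  -- `C_H(A') ≤ V`
  have hC : H s ⊓ centralizer (A' : Set G) ≤ V ⊓ centralizer (A' : Set G) := by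
    refine le_inf (fun y hy => hfix s hsA' hsn y hy.1 fun b hb => ?_) inf_le_right
    have h1 : y ∈ centralizer ((cj (1 * x) A₁ : Subgroup G) : Set G) :=
      D_cent 1 s (one_mem _) hsA' (fun a ha hQ => (hsA a ha).2 (by
        rw [mul_one] at hQ; exact (Subgroup.inv_mem_iff _).1 hQ)) hy.1
    have h2 : b * y * b⁻¹ ∈ centralizer ((cj (b * x) A₁ : Subgroup G) : Set G) := by
      have : cj (b * x) A₁ = cj b (cj (1 * x) A₁) := by rw [cj_cj, one_mul]
      rw [this, ← cj_centralizer, mem_cj]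
      have : b⁻¹ * (b * y * b⁻¹) * b = y := by group
      rw [this]; exact h1
    have h3 : b * y * b⁻¹ = y := by
      rw [mem_centralizer_iff.1 hy.2 b (hsA' b hb)]; group
    rwa [h3] at h2
  -- lower bound
  have hlow : q * q' ^ (q - 1) ≤ cidx (H s) A' := by
    have h1 := hcard s hsA' hsn
    rw [card_eq_relIndex (centralizer (A' : Set G)) (H s), card_eq_relIndex (centralizer (A' : Set G)) V, hs] at h1
    change cidx (H s) A' * _ = cidx V A' * _ * _ at h1
    have h2 := Subgroup.card_le_of_le hC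
    have h3 : 0 < Nat.card ↥(V ⊓ centralizer (A' : Set G)) := Nat.card_pos
    have h4 : cidx V A' * q' ^ (q - 1) * Nat.card ↥(V ⊓ centralizer (A' : Set G)) ≤
        cidx (H s) A' * Nat.card ↥(V ⊓ centralizer (A' : Set G)) := by
      calc cidx V A' * q' ^ (q - 1) * Nat.card ↥(V ⊓ centralizer (A' : Set G))
          = cidx (H s) A' * Nat.card ↥(H s ⊓ centralizer (A' : Set G)) := by rw [h1]; ring
        _ ≤ _ := by gcongr
    have h5 := Nat.le_of_mul_le_mul_right h4 h3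
    exact (Nat.mul_le_mul_right _ hV).trans h5
  -- upper bound
  have hup : cidx (H s) A' ≤ q * q' := by
    have h1 := off_le hA' (isElementaryAbelian_mono h.yy_elem (HY s hsA')) ((HY s hsA').trans h.yy_le_S)
    refine h1.trans ?_
    have h2 : (A' ⊓ Q) ⊓ centralizer ((cj x W : Subgroup G) : Set G) ≤ centralizer (H s : Set G) := by
      rw [Subgroup.le_centralizer_iff]
      refine H_le ?_ fun a ha => ?_
      · rw [Subgroup.le_centralizer_iff]
        exact (inf_le_left.trans inf_le_right).trans h.QV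
      · rw [Subgroup.le_centralizer_iff, ← cj_cj]
        intro c hc
        rw [← cj_centralizer, mem_cj, hA'c _ (A'.inv_mem (hsA' a ha)) c hc.1.1, inv_mul_cancel_right]
        exact hc.2
    have h3 : cidx A' (H s) ≤ ((A' ⊓ Q) ⊓ centralizer ((cj x W : Subgroup G) : Set G)).relIndex A' :=
      Subgroup.relIndex_le_of_le_left h2 (rel_ne _ _)
    refine h3.trans ?_
    rw [← Subgroup.relIndex_mul_relIndex _ (A' ⊓ Q) A' inf_le_left inf_le_left, Subgroup.inf_relIndex_left]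
    have h4 : (A' ⊓ Q).relIndex A' = q := by rw [inf_comm, Subgroup.inf_relIndex_right, hidx]
    rw [h4, mul_comm]
    refine Nat.mul_le_mul_left _ ?_
    rw [← cj_centralizer, ← relIndex_cj x⁻¹, cj_inv_cj]
    refine le_trans (Subgroup.relIndex_le_of_le_right ?_ (rel_ne _ _)) h.root.idx
    exact ((cj_mono _ inf_le_right).trans (h.cjQ (P.inv_mem hx)).le).trans h.QB
  -- contradiction
  have h1 := hlow.trans hup
  have h2 := Nat.le_of_mul_le_mul_left h1 (by omega : 0 < q)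
  have h3 : q' ^ 2 ≤ q' ^ (q - 1) := Nat.pow_le_pow_right (by have := h.two; omega) (by omega)
  have h4 := h.two
  nlinarith

end Cfg

end Cfsg.Agent.Omega.OM.ThreeCore

end

-- merged: Cfsg.Agent.Mrg.Omega.KL.PlugT
section

/-!
# THEOREM KL: the plug over `TC.Fr` for a subgroup of `C_i` (CARD #18791 `[A]` and `[B]`; helper836 #22393 (3))

683's `Plug.pre` with a subgroup `C`, `T, P (i+1) ≤ C ≤ C_i`, `N_i = ⟨v (i+1) ^ C⟩`, instead of `C_i`, and a vector
`p ∈ N_i`, `p ∉ ⟨v i⟩`, with `[p, g] ∈ ⟨v i⟩ ↔ g ∈ N(V i)` for `g ∈ C` instead of `p ∈ V i ≤ N_i` :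

* **`preT`** : the input of THEOREM KL for `C` on `N_i / ⟨v i⟩`, `x = v (i+1)`, `y = p`;
* **`false_ofT`** : contradiction from THEOREM KL.
-/

set_option autoImplicit false
set_option linter.unusedSectionVars false

namespace Cfsg.Agent.Omega.KL.PlugT

open Subgroup Cfsg Cfsg.Agent.ZN Cfsg.Agent.Omega.MinPar Cfsg.Agent.Omega.TC Cfsg.Agent.Omega.KL.Plug
open Cfsg.Agent.Omega.OM.KTwo (CC QQ WU NU EU ne_add_one eq_add_one add_one_add_one le_normalizer_V le_V)
open Cfsg.Agent.ClassTwoFusion.Quad Cfsg.Agent.Omega.ML.MinFrame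
open Cfsg.Agent.MinSimple.MinParabolic (IsMinPar)
open Cfsg.Agent.Omega.NoFF.Basic (conj_conj mem_conj conj_le_iff comm_symm comm_mono Z_le_V V_le)
open Cfsg.Agent.Omega.NOThreeL.Pair (conj_eq_of_mem conj_le_normalizer)
open Cfsg.Agent.ZN.ChoiceSit (Syl syl_conj syl_not_dvd)
open Cfsg.Agent.MinSimple.VModule (o2_isPGroup)
open scoped Pointwise

universe u

variable {G : Type u} [Group G]

variable [Finite G] {T : Subgroup G} {V P : Fin 2 → Subgroup G} {v : Fin 2 → G} (D : Fr T V P v)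

include D

/-- **the input of THEOREM KL** for `C ≤ C_i` -/
theorem preT {i : Fin 2} {C : Subgroup G} (hK : IsKGroup C) (hTC : T ≤ C) (hCC : C ≤ CC v i) (hPC : P (i + 1) ≤ C)
    (hgenG : ∀ U : Subgroup G, v (i + 1) ∈ U → C ≤ normalizer (U : Set G) → NU V v i ≤ U)
    {p : G} (hp : p ∈ NU V v i) (hpZ : p ∉ zpowers (v i))
    (hpst : ∀ g ∈ C, g * p * g⁻¹ * p⁻¹ ∈ zpowers (v i) ↔ g ∈ normalizer (V i : Set G))
    (hU : ∀ R : Subgroup G, IsMinPar T R → R ≤ C → ¬ R ≤ CC v (i + 1) → R ≤ normalizer (V i : Set G))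
    {A : Subgroup G} (hA2 : ∀ a ∈ A, a ^ 2 = 1) (hAD : A ≤ o2 (centralizer (zc T : Set G)))
    (hAV : A ≤ o2 (normalizer (V i : Set G) ⊓ C)) (hEx : OM.PG.Int.Ex A (NU V v i))
    (hAn : ¬ A ≤ centralizer (NU V v i : Set G)) :
    ∃ (M : Type u) (_ : Group M) (_ : Finite M) (_ : MulDistribMulAction C M) (W : Subgroup M) (x y : M),
      Quo.Pre (T.subgroupOf C) (A.subgroupOf C) W x y := by
  have hij := ne_add_one i
  have hji := hij.symm
  set N : Subgroup G := NU V v i with hN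
  set Z : Subgroup G := zpowers (v i) with hZ
  have hCN : C ≤ normalizer (N : Set G) := hCC.trans (D.C_le_N_N i)
  have hCCv : ∀ c ∈ CC v i, c * v i = v i * c := fun c hc => mem_centralizer_singleton_iff.1 hc
  have hCZc : ∀ c ∈ CC v i, ∀ z ∈ Z, c * z * c⁻¹ = z := by
    intro c hc z hz
    obtain ⟨n, rfl⟩ := mem_zpowers_iff.1 hz
    have h1 : Commute c (v i) := hCCv c hc
    rw [(h1.zpow_right n).eq, mul_inv_cancel_right]
  have hCCZ : CC v i ≤ normalizer (Z : Set G) := by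
    intro c hc
    rw [mem_normalizer_iff]
    intro z
    refine ⟨fun hz => by rw [hCZc c hc z hz]; exact hz, fun hz => ?_⟩
    have h1 := hCZc c⁻¹ (inv_mem hc) _ hz
    have e : c⁻¹ * (c * z * c⁻¹) * c⁻¹⁻¹ = z := by group
    rw [e] at h1
    rw [h1]
    exact hz
  have hCZ : C ≤ normalizer (Z : Set G) := hCC.trans hCCZ
  have hZmem : ∀ z ∈ Z, z = 1 ∨ z = v i := by
    intro z hz
    obtain ⟨n, rfl⟩ := mem_zpowers_iff.1 hz
    rcases Int.even_or_odd' n with ⟨k, rfl | rfl⟩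
    · left; rw [zpow_mul, zpow_two, D.v_sq, one_zpow]
    · right; rw [zpow_add, zpow_mul, zpow_two, D.v_sq, one_zpow, one_mul, zpow_one]
  have hvZ : v (i + 1) ∉ Z := by
    intro h
    rcases hZmem _ h with h1 | h1
    · exact D.ne _ h1
    · exact Phi.v_ne D hji h1
  have hnor : (Z.subgroupOf N).Normal := normal_subgroupOf_of_le_normalizer ((D.N_le_C i i).trans hCCZ)
  let _ := ML.Final.conjAct hCN hCZ
  let mk : N →* N ⧸ Z.subgroupOf N := QuotientGroup.mk' (Z.subgroupOf N)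
  have hmk : Function.Surjective mk := QuotientGroup.mk'_surjective _
  have hmem : ∀ (g : C) (n : N), (g : G) * n * (g : G)⁻¹ ∈ N := fun g n =>
    (mem_normalizer_iff.1 (hCN g.2) n).1 n.2
  have hsm : ∀ (g : C) (n : N), g • mk n = mk ⟨(g : G) * n * (g : G)⁻¹, hmem g n⟩ := fun _ _ => rfl
  have hone : ∀ a b : N, mk a = mk b ↔ (a : G) * (b : G)⁻¹ ∈ Z := by
    intro a b
    rw [← mul_inv_eq_one, ← map_inv, ← map_mul, ← MonoidHom.mem_ker, QuotientGroup.ker_mk']
    exact Iff.rfl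
  have hfix : ∀ (g : C) (n : N), g • mk n = mk n ↔ (g : G) * n * (g : G)⁻¹ * (n : G)⁻¹ ∈ Z := by
    intro g n
    rw [hsm, hone]
  set x : N ⧸ Z.subgroupOf N := mk ⟨v (i + 1), D.mem_N i⟩ with hx
  set y : N ⧸ Z.subgroupOf N := mk ⟨p, hp⟩ with hy
  set W : Subgroup (N ⧸ Z.subgroupOf N) := ((V (i + 1)).subgroupOf N).map mk with hW
  have hAT : A ≤ T := hAD.trans D.o2D_le_T
  have hAC : A ≤ C := hAT.trans hTC
  -- `⟨v (i+1) ^ C⟩ = N`
  have hNH : NH v i C = N := le_antisymm (D.NH_le_N hCC) (hgenG _ (mem_NH v i C) (le_normalizer_NH v i C))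
  -- the kernel
  have hker : ∀ c : C, (∀ m : N ⧸ Z.subgroupOf N, c • m = m) ↔ (c : G) ∈ centralizer (N : Set G) := by
    intro c
    constructor
    · intro h
      have h1 := D.ker_le (i := i) (H := C) (Y := Z) hTC hCC hCZ hvZ c.2 (by
        rw [hNH]
        intro n hn
        exact (hfix c ⟨n, hn⟩).1 (h _))
      rwa [hNH] at h1
    · intro h m
      obtain ⟨n, rfl⟩ := hmk m
      rw [hfix, ← mem_centralizer_iff.1 h n n.2, mul_inv_cancel_right, mul_inv_cancel]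
      exact one_mem _
  -- the stabilisers
  have hsx : ∀ c : C, c ∈ MulAction.stabilizer C x ↔ (c : G) ∈ centralizer (zc T : Set G) := by
    intro c
    rw [MulAction.mem_stabilizer_iff, hfix]
    constructor
    · exact fun h => D.stab_le hTC hCC hCZ hvZ c c.2 h
    · intro h
      have h1 : (c : G) * v (i + 1) = v (i + 1) * c := mem_centralizer_singleton_iff.1 (D.cent_zc_le (i + 1) h)
      change (c : G) * v (i + 1) * (c : G)⁻¹ * (v (i + 1))⁻¹ ∈ Z
      rw [h1, mul_inv_cancel_right, mul_inv_cancel]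
      exact one_mem _
  have hsy : ∀ c : C, c ∈ MulAction.stabilizer C y ↔ (c : G) ∈ normalizer (V i : Set G) ⊓ C := by
    intro c
    rw [MulAction.mem_stabilizer_iff, hfix]
    exact (hpst c c.2).trans ⟨fun h => ⟨h, c.2⟩, fun h => h.1⟩
  -- `N_C(T)`
  have hnT : ∀ g ∈ normalizer (T.subgroupOf C : Set C), (g : G) ∈ C ⊓ normalizer (T : Set G) := by
    intro g hg
    refine mem_inf.2 ⟨g.2, ?_⟩
    rw [mem_normalizer_iff]
    intro t
    constructor
    · intro ht
      exact (mem_normalizer_iff.1 hg ⟨t, hTC ht⟩).1 ht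
    · intro ht
      have h1 : (g : G)⁻¹ * ((g : G) * t * (g : G)⁻¹) * (g : G)⁻¹⁻¹ ∈ T :=
        (mem_normalizer_iff.1 (inv_mem hg) ⟨(g : G) * t * (g : G)⁻¹, hTC ht⟩).1 ht
      have e : (g : G)⁻¹ * ((g : G) * t * (g : G)⁻¹) * (g : G)⁻¹⁻¹ = t := by group
      rwa [e] at h1
  -- the index of the fixed space
  have hcvle : (centralizer (A : Set G)).subgroupOf N ≤ (cv (N ⧸ Z.subgroupOf N) (A.subgroupOf C : Set C)).comap mk := by
    intro n hn a ha
    refine (hfix a n).2 ?_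
    have h1 := mem_centralizer_iff.1 (mem_subgroupOf.1 hn) a (mem_subgroupOf.1 ha)
    rw [h1, mul_inv_cancel_right, mul_inv_cancel]
    exact one_mem _
  have hfxr : fxr C (⊤ : Subgroup (N ⧸ Z.subgroupOf N)) = (centralizer (N : Set G)).subgroupOf C := by
    ext c
    rw [mem_subgroupOf, ← hker]
    exact ⟨fun h m => h m (mem_top m), fun h m _ => h m⟩
  have hle : (cv (N ⧸ Z.subgroupOf N) (A.subgroupOf C : Set C)).index ≤
      (fxr C (⊤ : Subgroup (N ⧸ Z.subgroupOf N))).relIndex (A.subgroupOf C) := by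
    rw [hfxr, relIndex_subgroupOf hAC, ← index_comap_of_surjective _ hmk]
    refine (index_antitone hcvle).trans ?_
    exact hEx.ge
  have huni : ∀ R : Subgroup C, IsMinPar (T.subgroupOf C) R → (∃ r ∈ R, r • x ≠ x) →
      (∀ r ∈ R, ∀ w ∈ W, r • w ∈ W) ∧ ∀ r ∈ R, r • y = y := by
    intro R hR hmv
    have hR' := minPar_map hTC hR
    have hRC : R.map C.subtype ≤ C := map_subtype_le R
    have hRm : ¬ R.map C.subtype ≤ CC v (i + 1) := by
      intro h
      obtain ⟨r, hr, hrx⟩ := hmv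
      apply hrx
      have h1 : (r : G) * v (i + 1) = v (i + 1) * r := mem_centralizer_singleton_iff.1 (h (mem_map_of_mem C.subtype hr))
      rw [hfix]
      change (r : G) * v (i + 1) * (r : G)⁻¹ * (v (i + 1))⁻¹ ∈ Z
      rw [h1, mul_inv_cancel_right, mul_inv_cancel]
      exact one_mem _
    have h1 := D.uni (i + 1) i hji _ hR' (hRC.trans hCC) hRm
    have h2 := hU _ hR' hRC hRm
    refine ⟨?_, ?_⟩
    · rintro r hr _ ⟨w, hw, rfl⟩
      rw [hsm]
      refine ⟨_, ?_, rfl⟩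
      exact mem_subgroupOf.2 ((mem_normalizer_iff.1 (h1 (mem_map_of_mem C.subtype hr)) _).1 (mem_subgroupOf.1 hw))
    · intro r hr
      exact MulAction.mem_stabilizer_iff.1 ((hsy r).2 (mem_inf.2 ⟨h2 (mem_map_of_mem C.subtype hr), r.2⟩))
  refine ⟨N ⧸ Z.subgroupOf N, inferInstance, inferInstance, inferInstance, W, x, y, ?_⟩
  refine Quo.Pre.mk ?_ ?_ ?_ ?_ ?_ ?_ ?_ ?_ ?_ ?_ ?_ huni ?_ ?_ ?_ ?_ hle hK
  · intro m
    obtain ⟨n, rfl⟩ := hmk m
    rw [← map_mul, ← map_one mk, hone]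
    have h1 : (n : G) * n = 1 := by rw [← pow_two]; exact D.N_sq i n n.2
    simp [h1]
  · -- generation
    set U : Subgroup G := ((orb (⊤ : Subgroup C) x).comap mk).map N.subtype with hUd
    have hUmem : ∀ a : N, (a : G) ∈ U ↔ mk a ∈ orb (⊤ : Subgroup C) x := by
      intro a
      constructor
      · rintro ⟨b, hb, hba⟩
        rw [← (Subtype.ext hba : b = a)]
        exact hb
      · exact fun ha => ⟨a, ha, rfl⟩
    have h1 : N ≤ U := by
      refine hgenG U ((hUmem ⟨v (i + 1), D.mem_N i⟩).2 (mem_orb_self _ x)) ?_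
      have key : ∀ g ∈ C, ∀ a ∈ U, g * a * g⁻¹ ∈ U := by
        rintro g hg a ⟨b, hb, rfl⟩
        have h2 := smul_mem_orb (g := (⟨g, hg⟩ : C)) (mem_top _) hb
        rw [hsm ⟨g, hg⟩ b] at h2
        exact (hUmem ⟨_, hmem ⟨g, hg⟩ b⟩).2 h2
      intro g hg
      rw [mem_normalizer_iff]
      intro a
      refine ⟨key g hg a, fun ha => ?_⟩
      have h2 := key g⁻¹ (inv_mem hg) _ ha
      have e : g⁻¹ * (g * a * g⁻¹) * g⁻¹⁻¹ = a := by group
      rwa [e] at h2
    rw [eq_top_iff]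
    intro m _
    obtain ⟨n, rfl⟩ := hmk m
    exact (hUmem n).1 (h1 n.2)
  · exact D.T_isPGroup.comap_of_injective C.subtype C.subtype_injective
  · intro h2
    apply syl_not_dvd (D.syl i)
    rw [← relIndex_mul_relIndex T C (CC v i) hTC hCC]
    exact Dvd.dvd.mul_right h2 _
  · intro h
    rw [hx, ← map_one mk, hone] at h
    exact hvZ (by simpa using h)
  · intro h
    rw [hy, ← map_one mk, hone] at h
    exact hpZ (by simpa using h)
  · -- `x ≠ y`: `P (i+1)` fixes `y` and moves `x`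
    intro h
    apply D.mv (i + 1)
    intro q hq
    have hqC := hPC hq
    have h1 : (⟨q, hqC⟩ : C) ∈ MulAction.stabilizer C y :=
      (hsy ⟨q, hqC⟩).2 (mem_inf.2 ⟨D.PN (i + 1) i hq, hqC⟩)
    rw [← h] at h1
    exact D.cent_zc_le (i + 1) ((hsx ⟨q, hqC⟩).1 h1)
  · intro g hg
    exact MulAction.mem_stabilizer_iff.1 ((hsx g).2 (D.norm_T_le i ⟨hCC (hnT g hg).1, (hnT g hg).2⟩))
  · intro g hg
    exact MulAction.mem_stabilizer_iff.1 ((hsy g).2 (mem_inf.2 ⟨nT_le D i ⟨hCC (hnT g hg).1, (hnT g hg).2⟩, g.2⟩))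
  · -- `|W| = 4`
    have h1 : ∀ a ∈ (V (i + 1)).subgroupOf N, mk a = 1 → a = 1 := by
      intro a ha h2
      rw [← map_one mk, hone] at h2
      have h3 : (a : G) ∈ Z := by simpa using h2
      rcases hZmem _ h3 with h4 | h4
      · exact Subtype.ext h4
      · exfalso
        apply Phi.v_notMem D hji
        rw [← h4]
        exact mem_subgroupOf.1 ha
    have h2 : Nat.card ((V (i + 1)).subgroupOf N) = 4 := by
      rw [← D.four (i + 1)]
      exact Nat.card_congr (subgroupOfEquivOfLe (D.V_le_N i)).toEquiv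
    rw [← h2]
    have hinj : Function.Injective (mk.subgroupMap ((V (i + 1)).subgroupOf N)) := by
      rw [injective_iff_map_eq_one]
      rintro ⟨a, ha⟩ h3
      exact Subtype.ext (h1 a ha (congrArg Subtype.val h3))
    exact (Nat.card_congr (Equiv.ofBijective _ ⟨hinj, mk.subgroupMap_surjective _⟩)).symm
  · exact ⟨⟨v (i + 1), D.mem_N i⟩, mem_subgroupOf.2 (D.mem (i + 1)), rfl⟩
  · intro a ha
    have h1 := hA2 a (mem_subgroupOf.1 ha)
    rw [← pow_two]
    exact Subtype.ext h1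
  · exact sub_o2 hsx hAD
  · exact sub_o2 hsy hAV
  · by_contra hcon
    push Not at hcon
    apply hAn
    intro a ha
    exact (hker ⟨a, hAC ha⟩).1 fun m => hcon ⟨a, hAC ha⟩ (mem_subgroupOf.2 ha) m


/-- **THEOREM KL kills such a `C` as soon as there is an exact group in `O₂(D) ∩ O₂(N_C(V i))`.** -/
theorem false_ofT (hML : ML.Final.MLK.{u, u}) (hKL : Quo.NoInp.{u, u}) {i : Fin 2} {C : Subgroup G} (hK : IsKGroup C)
    (hTC : T ≤ C) (hCC : C ≤ CC v i) (hPC : P (i + 1) ≤ C)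
    (hgenG : ∀ U : Subgroup G, v (i + 1) ∈ U → C ≤ normalizer (U : Set G) → NU V v i ≤ U)
    {p : G} (hp : p ∈ NU V v i) (hpZ : p ∉ zpowers (v i))
    (hpst : ∀ g ∈ C, g * p * g⁻¹ * p⁻¹ ∈ zpowers (v i) ↔ g ∈ normalizer (V i : Set G))
    (hU : ∀ R : Subgroup G, IsMinPar T R → R ≤ C → ¬ R ≤ CC v (i + 1) → R ≤ normalizer (V i : Set G))
    {A : Subgroup G} (hA2 : ∀ a ∈ A, a ^ 2 = 1) (hAD : A ≤ o2 (centralizer (zc T : Set G)))
    (hAV : A ≤ o2 (normalizer (V i : Set G) ⊓ C)) (hEx : OM.PG.Int.Ex A (NU V v i))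
    (hAn : ¬ A ≤ centralizer (NU V v i : Set G)) : False := by
  obtain ⟨M, _, _, _, W, x, y, h⟩ := preT D hK hTC hCC hPC hgenG hp hpZ hpst hU hA2 hAD hAV hEx hAn
  exact h.false hML hKL

end Cfsg.Agent.Omega.KL.PlugT

end

-- merged: Cfsg.Agent.Mrg.Omega.TC.ThmI
section

section


/-!
# CARD #18791 "(E) = TWO CENTRES": THEOREM I (helper990 #20267), abstract form

`Side T Qs N V P z v` : the elementary abelian group `N ≤ Qs ≤ T ≤ P` contains the four-group `V ∋ v` and the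
involution `z ∉ V`; `P` centralises `z`, normalises `N`, `V`, `C_T(V)`, moves `v`, which is centralised by `T`; `(K3)`
members of `AA Qs` (elementary abelian subgroups of `Qs` of largest order) have no fixed points on `N / ⟨z⟩` outside
the image of `C_N(A)`.

* `off_eq` : equality in Thompson's inequality gives a new member of `AA`;
* `Side.one` : if some `A ∈ AA Qs` moves `V`, then every `r ∈ N` with `[r,T] ≤ ⟨z, v⟩` has some `c ∈ rV` with
  `[c,T] ≤ ⟨z⟩`, `[c,A] = 1`;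
* `Side.two` : if `r` lies in a second group `N'` with `(K3)` for `v`, then `[r,T] ≤ ⟨z⟩`;
* `inter_le` : with two `Side`s, `N ⊓ N' ≤ ⟨z, v⟩`.
-/

set_option autoImplicit false

namespace Cfsg.Agent.Omega.TC.ThmI

open Subgroup Cfsg Cfsg.Agent.ZN Cfsg.Agent.ZN.ChoiceBase Cfsg.Agent.PLocal.ThompsonJ
open Cfsg.Agent.Omega.NO3b.Ineq (cidx cidx_chain cidx_chain_right cidx_pos cidx_eq_one_iff rel_ne step_left)
open Cfsg.Agent.Omega.OM.ThreeCore (off_le elem_sup card_sup_comm card_eq_relIndex mem_sup_comm)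

universe u

variable {G : Type u} [Group G]

/-! ### Indices at most two, at least three -/

theorem rel_le_two {K H : Subgroup G} (h : ∀ x ∈ H, ∀ y ∈ H, x ∉ K → y ∉ K → x * y ∈ K) : K.relIndex H ≤ 2 := by
  by_cases hle : H ≤ K
  · rw [relIndex_eq_one.2 hle]; norm_num
  obtain ⟨a, ha, haK⟩ := SetLike.not_le_iff_exists.1 hle
  refine (relIndex_eq_two_iff.2 ⟨a, ha, fun b hb => ?_⟩).le
  by_cases hbK : b ∈ K
  · refine Or.inr ⟨hbK, fun h2 => haK ?_⟩
    have := K.mul_mem (K.inv_mem hbK) h2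
    rwa [inv_mul_cancel_left] at this
  · exact Or.inl ⟨h b hb a ha hbK haK, hbK⟩

theorem two_le_rel [Finite G] {K H : Subgroup G} {x : G} (hx : x ∈ H) (hxK : x ∉ K) : 2 ≤ K.relIndex H := by
  have h0 := rel_ne K H
  have h1 : K.relIndex H ≠ 1 := fun h => hxK (relIndex_eq_one.1 h hx)
  omega

theorem three_le_rel [Finite G] {K H : Subgroup G} {x y : G} (hx : x ∈ H) (hy : y ∈ H) (hxK : x ∉ K) (hyK : y ∉ K)
    (hxy : x * y ∉ K) : 3 ≤ K.relIndex H := by
  have h2 := two_le_rel hx hxK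
  by_contra hcon
  have h3 : (K.subgroupOf H).index = 2 := by
    change K.relIndex H = 2
    omega
  have h4 := mul_mem_iff_of_index_two h3 (a := ⟨x, hx⟩) (b := ⟨y, hy⟩)
  rw [mem_subgroupOf, mem_subgroupOf, mem_subgroupOf] at h4
  exact hxy (h4.2 ⟨fun h => absurd h hxK, fun h => absurd h hyK⟩)

/-! ### Equality in Thompson's inequality -/

theorem off_eq [Finite G] {B A Y : Subgroup G} (hA : A ∈ AA B) (hY : IsElementaryAbelian 2 Y) (hYB : Y ≤ B)
    (he : cidx A Y ≤ cidx Y A) : (A ⊓ centralizer (Y : Set G)) ⊔ Y ∈ AA B := by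
  have hc : Y ≤ centralizer ((A ⊓ centralizer (Y : Set G) : Subgroup G) : Set G) := by
    rw [Subgroup.le_centralizer_iff]; exact inf_le_right
  have h1 := card_sup_comm hc
  have h3 : Nat.card (Y ⊓ (A ⊓ centralizer (Y : Set G)) : Subgroup G) ≤
      Nat.card ↥(Y ⊓ centralizer (A : Set G)) := by
    refine Subgroup.card_le_of_le (inf_le_inf_left _ ?_)
    have h4 : A ≤ centralizer (A : Set G) := fun a ha =>
      mem_centralizer_iff.2 fun b hb => (isElementaryAbelian_iff.1 hA.1).1 b hb a ha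
    exact inf_le_left.trans h4
  have h5 := card_eq_relIndex (centralizer (A : Set G)) Y
  have h6 := card_eq_relIndex (centralizer (Y : Set G)) A
  have hd : 0 < Nat.card ↥(Y ⊓ (A ⊓ centralizer (Y : Set G))) := Nat.card_pos
  change (centralizer (Y : Set G)).relIndex A ≤ (centralizer (A : Set G)).relIndex Y at he
  rw [sup_comm]
  refine ⟨elem_sup hY (isElementaryAbelian_mono hA.1 inf_le_left) hc, sup_le hYB (inf_le_left.trans hA.2.1), ?_⟩
  intro C hC hCB
  refine (hA.2.2 C hC hCB).trans ?_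
  set r := (centralizer (A : Set G)).relIndex Y
  set c := (centralizer (Y : Set G)).relIndex A
  have h7 : Nat.card A * Nat.card (Y ⊓ (A ⊓ centralizer (Y : Set G)) : Subgroup G) ≤
      Nat.card (Y ⊔ (A ⊓ centralizer (Y : Set G)) : Subgroup G) *
        Nat.card (Y ⊓ (A ⊓ centralizer (Y : Set G)) : Subgroup G) := by
    calc Nat.card A * Nat.card (Y ⊓ (A ⊓ centralizer (Y : Set G)) : Subgroup G)
        = c * Nat.card ↥(A ⊓ centralizer (Y : Set G)) *
          Nat.card (Y ⊓ (A ⊓ centralizer (Y : Set G)) : Subgroup G) := by rw [h6]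
      _ ≤ r * Nat.card ↥(A ⊓ centralizer (Y : Set G)) * Nat.card ↥(Y ⊓ centralizer (A : Set G)) := by gcongr
      _ = Nat.card Y * Nat.card ↥(A ⊓ centralizer (Y : Set G)) := by rw [h5]; ring
      _ = _ := h1.symm
  exact Nat.le_of_mul_le_mul_right h7 hd

/-! ### Commutators -/

/-- the commutator `[a, x] = a x a⁻¹ x⁻¹` -/
def kp (a x : G) : G := a * x * a⁻¹ * x⁻¹

theorem kp_eq_one_iff {a x : G} : kp a x = 1 ↔ a * x = x * a := by
  unfold kp
  constructor
  · intro h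
    calc a * x = (a * x * a⁻¹ * x⁻¹) * (x * a) := by group
      _ = x * a := by rw [h, one_mul]
  · intro h
    rw [h]; group

theorem kp_conj (p a x : G) : p * kp a x * p⁻¹ = kp (p * a * p⁻¹) (p * x * p⁻¹) := by
  unfold kp; group

theorem kp_mul_left (a b x : G) : kp (a * b) x = a * kp b x * a⁻¹ * kp a x := by
  unfold kp; group

theorem kp_mul {N : Subgroup G} (hN : ∀ a ∈ N, ∀ b ∈ N, a * b = b * a) {a x y : G} (hx : x ∈ N) (hy : y ∈ N)
    (hay : a * y * a⁻¹ ∈ N) : kp a (x * y) = kp a x * kp a y := by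
  unfold kp
  have e1 : a * (x * y) * a⁻¹ * (x * y)⁻¹ = (a * x * a⁻¹) * ((a * y * a⁻¹) * y⁻¹) * x⁻¹ := by group
  have h1 : (a * y * a⁻¹) * y⁻¹ ∈ N := N.mul_mem hay (N.inv_mem hy)
  rw [e1, mul_assoc, hN _ h1 _ (N.inv_mem hx)]
  group

/-- `T` acts on the elementary abelian group `N ∋ z, v`; see the head of the file. -/
structure Side (T Qs N V P : Subgroup G) (z v : G) : Prop where
  TP : T ≤ P
  QT : Qs ≤ T
  NQ : N ≤ Qs
  Nc : ∀ a ∈ N, ∀ b ∈ N, a * b = b * a
  Nsq : ∀ a ∈ N, a * a = 1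
  zN : z ∈ N
  z1 : z ≠ 1
  vV : v ∈ V
  v1 : v ≠ 1
  zV : z ∉ V
  VN : V ≤ N
  V4 : Nat.card V = 4
  Tv : ∀ t ∈ T, t * v * t⁻¹ = v
  Pz : ∀ p ∈ P, p * z * p⁻¹ = z
  PV : ∀ p ∈ P, ∀ x ∈ V, p * x * p⁻¹ ∈ V
  PN : ∀ p ∈ P, ∀ x ∈ N, p * x * p⁻¹ ∈ N
  PR : ∀ p ∈ P, ∀ e ∈ T, (∀ x ∈ V, e * x = x * e) → p * e * p⁻¹ ∈ T
  tr : ∃ l ∈ P, l * v * l⁻¹ ≠ v
  K3 : ∀ A ∈ AA Qs, ∀ x ∈ N, (∀ a ∈ A, kp a x = 1 ∨ kp a x = z) → ∀ a ∈ A, a * x = x * a

namespace Side

variable {T Qs N V P A : Subgroup G} {z v : G}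

theorem inv_eq (S : Side T Qs N V P z v) {x : G} (hx : x ∈ N) : x⁻¹ = x :=
  inv_eq_of_mul_eq_one_left (S.Nsq x hx)

theorem Nel (S : Side T Qs N V P z v) : IsElementaryAbelian 2 N :=
  isElementaryAbelian_iff.2 ⟨S.Nc, fun a ha => by rw [pow_two]; exact S.Nsq a ha⟩

theorem Vel (S : Side T Qs N V P z v) : IsElementaryAbelian 2 V := isElementaryAbelian_mono S.Nel S.VN

theorem vN (S : Side T Qs N V P z v) : v ∈ N := S.VN S.vV

theorem four [Finite G] (S : Side T Qs N V P z v) {x : G} (hx : x ∈ V) (hx1 : x ≠ 1) (hxv : x ≠ v) {y : G} (hy : y ∈ V) :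
    y = 1 ∨ y = v ∨ y = x ∨ y = v * x := by
  by_cases h : y = 1
  · exact Or.inl h
  right
  rcases NO3S.eq_of_card_four S.V4 (fun a ha => by rw [pow_two]; exact S.Nsq a (S.VN ha)) S.vV S.v1 hx hx1
    (Ne.symm hxv) hy h with h | h | h
  · exact Or.inl h
  · exact Or.inr (Or.inl h)
  · exact Or.inr (Or.inr h)

/-- the action of `T` on `V` -/
theorem act [Finite G] (S : Side T Qs N V P z v) {x : G} (hx : x ∈ V) (hx1 : x ≠ 1) (hxv : x ≠ v) {t : G} (ht : t ∈ T) :
    (∀ y ∈ V, t * y = y * t) ∨ t * x * t⁻¹ = v * x := by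
  have h1 := S.PV t (S.TP ht) x hx
  have htv := S.Tv t ht
  rcases S.four hx hx1 hxv h1 with h | h | h | h
  · exact absurd (conj_eq_one_iff.1 h) hx1
  · exfalso
    apply hxv
    rw [← htv] at h
    have h2 := mul_right_cancel h
    exact mul_left_cancel h2
  · left
    have h2 : t * v = v * t := by
      calc t * v = t * v * t⁻¹ * t := by group
        _ = v * t := by rw [htv]
    have h3 : t * x = x * t := by
      calc t * x = t * x * t⁻¹ * t := by group
        _ = x * t := by rw [h]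
    intro y hy
    rcases S.four hx hx1 hxv hy with h4 | h4 | h4 | h4
    · rw [h4]; group
    · rw [h4]; exact h2
    · rw [h4]; exact h3
    · rw [h4]
      calc t * (v * x) = (t * v) * x := by group
        _ = v * (t * x) := by rw [h2]; group
        _ = v * x * t := by rw [h3]; group
  · exact Or.inr h

theorem kpN (S : Side T Qs N V P z v) {p x : G} (hp : p ∈ P) (hx : x ∈ N) : kp p x ∈ N :=
  N.mul_mem (S.PN p hp x hx) (N.inv_mem hx)

theorem kp_mul' (S : Side T Qs N V P z v) {p x y : G} (hp : p ∈ P) (hx : x ∈ N) (hy : y ∈ N) :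
    kp p (x * y) = kp p x * kp p y := kp_mul S.Nc hx hy (S.PN p hp y hy)

/-- elements of `T` which centralise `V` -/
theorem kpV [Finite G] (S : Side T Qs N V P z v) {x : G} (hx : x ∈ V) {t : G} (ht : t ∈ T) : kp t x = 1 ∨ kp t x = v := by
  by_cases hx1 : x = 1
  · left; rw [hx1]; unfold kp; group
  by_cases hxv : x = v
  · left
    rw [hxv, kp_eq_one_iff]
    calc t * v = t * v * t⁻¹ * t := by group
      _ = v * t := by rw [S.Tv t ht]
  rcases S.act hx hx1 hxv ht with h | h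
  · left; rw [kp_eq_one_iff]; exact h x hx
  · right; unfold kp; rw [h]; group

/-- `(1)` of THEOREM I. -/
theorem one [Finite G] (S : Side T Qs N V P z v) (hA : A ∈ AA Qs) (hAV : ¬ ∀ a ∈ A, ∀ x ∈ V, a * x = x * a)
    {r : G} (hr : r ∈ N) (hrT : ∀ t ∈ T, kp t r = 1 ∨ kp t r = z ∨ kp t r = v ∨ kp t r = z * v) :
    ∃ c ∈ N, (∃ x ∈ V, c = r * x) ∧ (∀ t ∈ T, kp t c = 1 ∨ kp t c = z) ∧ ∀ a ∈ A, a * c = c * a := by
  have hAT : A ≤ T := hA.2.1.trans S.QT
  have hAc : ∀ a ∈ A, ∀ b ∈ A, a * b = b * a := (isElementaryAbelian_iff.1 hA.1).1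
  obtain ⟨l, hl, hlv⟩ := S.tr
  -- the second element of `V`
  obtain ⟨x, hx⟩ : ∃ x, x = l * v * l⁻¹ := ⟨_, rfl⟩
  have hxV : x ∈ V := by rw [hx]; exact S.PV l hl v S.vV
  have hxv : x ≠ v := by rw [hx]; exact hlv
  have hx1 : x ≠ 1 := by rw [hx]; exact fun h => S.v1 (conj_eq_one_iff.1 h)
  have hxN : x ∈ N := S.VN hxV
  have hvN : v ∈ N := S.vN
  have hzN : z ∈ N := S.zN
  have hvv := S.Nsq v hvN
  have hxx := S.Nsq x hxN
  have hzz := S.Nsq z hzN
  have hvx : v * x = x * v := S.Nc _ hvN _ hxN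
  have hzv : z * v = v * z := S.Nc _ hzN _ hvN
  have hzx : z * x = x * z := S.Nc _ hzN _ hxN
  -- `a ∈ A` moves `V`
  obtain ⟨a, haA, haV⟩ : ∃ a ∈ A, ¬ ∀ y ∈ V, a * y = y * a := by
    by_contra hcon
    push Not at hcon
    exact hAV hcon
  have haT := hAT haA
  have haP := S.TP haT
  have hax : a * x * a⁻¹ = v * x := (S.act hxV hx1 hxv haT).resolve_left haV
  -- `l⁻¹`
  have hl' : l⁻¹ ∈ P := P.inv_mem hl
  -- `E = C_A(V)`
  set E : Subgroup G := A ⊓ centralizer (V : Set G) with hE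
  have hEV : ∀ e ∈ E, ∀ y ∈ V, e * y = y * e := fun e he y hy => (mem_centralizer_iff.1 he.2 y hy).symm
  have hEA : E ≤ A := inf_le_left
  have hET : E ≤ T := hEA.trans hAT
  -- `r₂`, `r₃`
  set r2 : G := l * r * l⁻¹ with hr2
  have hr2N : r2 ∈ N := S.PN l hl r hr
  set r3 : G := a * r2 * a⁻¹ with hr3
  have hr3N : r3 ∈ N := S.PN a haP r2 hr2N
  -- `[r₂,e] ∈ ⟨z, x⟩`
  have hk2 : ∀ e ∈ E, kp e r2 = 1 ∨ kp e r2 = z ∨ kp e r2 = x ∨ kp e r2 = z * x := by
    intro e he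
    have h1 : l⁻¹ * e * l⁻¹⁻¹ ∈ T := S.PR l⁻¹ hl' e (hET he) (hEV e he)
    rw [inv_inv] at h1
    have h2 : kp e r2 = l * kp (l⁻¹ * e * l) r * l⁻¹ := by
      rw [kp_conj, hr2]
      congr 1
      group
    rw [h2]
    rcases hrT _ h1 with h3 | h3 | h3 | h3
    · left; rw [h3]; group
    · right; left; rw [h3]; exact S.Pz l hl
    · right; right; left; rw [h3]; exact hx.symm
    · right; right; right
      rw [h3, hx]
      calc l * (z * v) * l⁻¹ = (l * z * l⁻¹) * (l * v * l⁻¹) := by group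
        _ = z * (l * v * l⁻¹) := by rw [S.Pz l hl]
  have hk3 : ∀ e ∈ E, kp e r3 = a * kp e r2 * a⁻¹ := by
    intro e he
    rw [kp_conj, hr3]
    congr 1
    rw [hAc a haA e (hEA he)]; group
  -- `A' = E V`
  have hcAV : cidx A V ≤ 2 := by
    refine rel_le_two fun b hb c hc hbn hcn => ?_
    have hb1 : b * x * b⁻¹ = v * x := (S.act hxV hx1 hxv (hAT hb)).resolve_left fun h =>
      hbn (mem_centralizer_iff.2 fun y hy => (h y hy).symm)
    have hc1 : c * x * c⁻¹ = v * x := (S.act hxV hx1 hxv (hAT hc)).resolve_left fun h =>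
      hcn (mem_centralizer_iff.2 fun y hy => (h y hy).symm)
    rcases S.act hxV hx1 hxv (T.mul_mem (hAT hb) (hAT hc)) with h | h
    · exact mem_centralizer_iff.2 fun y hy => (h y hy).symm
    · exfalso
      have h2 : b * c * x * (b * c)⁻¹ = v * (v * x) := by
        calc b * c * x * (b * c)⁻¹ = b * (c * x * c⁻¹) * b⁻¹ := by group
          _ = (b * v * b⁻¹) * (b * x * b⁻¹) := by rw [hc1]; group
          _ = v * (v * x) := by rw [S.Tv b (hAT hb), hb1]
      rw [h] at h2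
      have h3 := mul_left_cancel h2
      exact S.v1 (mul_eq_right.1 h3.symm)
  have hcVA : 2 ≤ cidx V A := two_le_rel (x := x) hxV fun h => by
    have h1 := mem_centralizer_iff.1 h a haA
    rw [h1] at hax
    have h2 : x = v * x := by rw [← hax]; group
    exact S.v1 (mul_eq_right.1 h2.symm)
  have hA' : E ⊔ V ∈ AA Qs := off_eq hA S.Vel (S.VN.trans S.NQ) (hcAV.trans hcVA)
  have hEVc : E ≤ centralizer (V : Set G) := inf_le_right
  -- the group `U₂`
  set U2 : Subgroup G := zpowers r2 ⊔ zpowers r3 ⊔ (V ⊔ zpowers z) with hU2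
  have hU2N : U2 ≤ N := by
    refine sup_le (sup_le ?_ ?_) (sup_le S.VN ?_) <;> rw [zpowers_le] <;> assumption
  have hU2e : IsElementaryAbelian 2 U2 := isElementaryAbelian_mono S.Nel hU2N
  have hr2U : r2 ∈ U2 := mem_sup_left (mem_sup_left (mem_zpowers _))
  have hr3U : r3 ∈ U2 := mem_sup_left (mem_sup_right (mem_zpowers _))
  have hVU : V ≤ U2 := le_sup_of_le_right le_sup_left
  have hzP : ∀ p ∈ P, p * z = z * p := fun p hp => by
    calc p * z = p * z * p⁻¹ * p := by group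
      _ = z * p := by rw [S.Pz p hp]
  have hU2off := off_le hA hU2e (hU2N.trans S.NQ)
  have hstep := step_left (V := V) (W := U2) (E := A) hVU
  rw [← hE] at hstep
  -- `e ∈ E` centralises `U₂` as soon as it centralises `r₂`
  have hEU : ∀ e ∈ E, e * r2 = r2 * e → e ∈ centralizer (U2 : Set G) := by
    intro e he h1
    have h2 : e * r3 = r3 * e := by
      rw [← kp_eq_one_iff, hk3 e he, kp_eq_one_iff.2 h1]; group
    have h3 : U2 ≤ centralizer ({e} : Set G) := by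
      refine sup_le (sup_le ?_ ?_) (sup_le ?_ ?_)
      · rw [zpowers_le, mem_centralizer_singleton_iff]; exact h1.symm
      · rw [zpowers_le, mem_centralizer_singleton_iff]; exact h2.symm
      · intro y hy
        rw [mem_centralizer_singleton_iff]; exact (hEV e he y hy).symm
      · rw [zpowers_le, mem_centralizer_singleton_iff]; exact (hzP e (S.TP (hET he))).symm
    exact mem_centralizer_iff.2 fun y hy => mem_centralizer_singleton_iff.1 (h3 hy)
  -- **(1a)**
  have h1a : ∀ e ∈ E, kp e r2 = 1 ∨ kp e r2 = z := by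
    by_contra hcon
    push Not at hcon
    obtain ⟨e0, he0, hne1, hnez⟩ := hcon
    set f : G := r2 * r3 with hf
    have hfN : f ∈ N := N.mul_mem hr2N hr3N
    -- the value of `[e, f]`
    have hkf1 : ∀ e ∈ E, (kp e r2 = 1 ∨ kp e r2 = z) → kp e f = 1 := by
      intro e he h
      rw [hf, S.kp_mul' (S.TP (hET he)) hr2N hr3N, hk3 e he]
      rcases h with h | h
      · rw [h]; group
      · rw [h, S.Pz a haP, hzz]
    have hkf2 : ∀ e ∈ E, (kp e r2 = x ∨ kp e r2 = z * x) → kp e f = v := by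
      intro e he h
      rw [hf, S.kp_mul' (S.TP (hET he)) hr2N hr3N, hk3 e he]
      rcases h with h | h
      · rw [h, hax, hvx, ← mul_assoc, hxx, one_mul]
      · have e1 : a * (z * x) * a⁻¹ = (a * z * a⁻¹) * (a * x * a⁻¹) := by group
        rw [h, e1, S.Pz a haP, hax]
        calc z * x * (z * (v * x)) = z * (x * z) * v * x := by group
          _ = z * (z * x) * v * x := by rw [hzx]
          _ = (z * z) * (x * v) * x := by group
          _ = (z * z) * (v * x) * x := by rw [hvx]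
          _ = (z * z) * v * (x * x) := by group
          _ = v := by rw [hzz, hxx]; group
    have hk4 : ∀ e ∈ E, kp e f = 1 → (kp e r2 = 1 ∨ kp e r2 = z) := by
      intro e he h
      rcases hk2 e he with h1 | h1 | h1 | h1
      · exact Or.inl h1
      · exact Or.inr h1
      · exact absurd ((hkf2 e he (Or.inl h1)).symm.trans h) S.v1
      · exact absurd ((hkf2 e he (Or.inr h1)).symm.trans h) S.v1
    have hk5 : ∀ e ∈ E, kp e f = 1 ∨ kp e f = v := by
      intro e he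
      rcases hk2 e he with h1 | h1 | h1 | h1
      · exact Or.inl (hkf1 e he (Or.inl h1))
      · exact Or.inl (hkf1 e he (Or.inr h1))
      · exact Or.inr (hkf2 e he (Or.inl h1))
      · exact Or.inr (hkf2 e he (Or.inr h1))
    have he0x : kp e0 r2 = x ∨ kp e0 r2 = z * x := by
      rcases hk2 e0 he0 with h1 | h1 | h1 | h1
      · exact absurd h1 hne1
      · exact absurd h1 hnez
      · exact Or.inl h1
      · exact Or.inr h1
    have he0f : kp e0 f = v := hkf2 e0 he0 he0x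
    -- `U = ⟨f, v⟩`
    set U : Subgroup G := zpowers f ⊔ zpowers v with hU
    have hUN : U ≤ N := by
      refine sup_le ?_ ?_ <;> rw [zpowers_le] <;> assumption
    have hUe : IsElementaryAbelian 2 U := isElementaryAbelian_mono S.Nel hUN
    have hvT : ∀ t ∈ T, t * v = v * t := fun t ht => by
      calc t * v = t * v * t⁻¹ * t := by group
        _ = v * t := by rw [S.Tv t ht]
    have hmemU : ∀ t ∈ T, t * f = f * t → t ∈ centralizer (U : Set G) := by
      intro t ht h1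
      have h3 : U ≤ centralizer ({t} : Set G) := by
        refine sup_le ?_ ?_
        · rw [zpowers_le, mem_centralizer_singleton_iff]; exact h1.symm
        · rw [zpowers_le, mem_centralizer_singleton_iff]; exact (hvT t ht).symm
      exact mem_centralizer_iff.2 fun y hy => mem_centralizer_singleton_iff.1 (h3 hy)
    have hfU : f ∈ U := mem_sup_left (mem_zpowers _)
    -- elements of `E V`
    have hEVm : ∀ y ∈ E ⊔ V, ∃ e ∈ E, ∃ w ∈ V, y = e * w := fun y hy => mem_sup_comm hEVc hy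
    have hkEV : ∀ y ∈ N, ∀ e ∈ E, ∀ w ∈ V, kp (e * w) y = kp e y := by
      intro y hy e he w hw
      have h1 : kp w y = 1 := kp_eq_one_iff.2 (S.Nc _ (S.VN hw) _ hy)
      rw [kp_mul_left, h1]; group
    have hA'T : E ⊔ V ≤ T := sup_le hET (S.VN.trans (S.NQ.trans S.QT))
    have hle2 : cidx (E ⊔ V) U ≤ 2 := by
      refine rel_le_two fun b hb c hc hbn hcn => ?_
      refine hmemU _ (T.mul_mem (hA'T hb) (hA'T hc)) (kp_eq_one_iff.1 ?_)
      obtain ⟨e, he, w, hw, rfl⟩ := hEVm b hb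
      obtain ⟨e', he', w', hw', rfl⟩ := hEVm c hc
      have h1 : kp (e * w) f = v := by
        rw [hkEV f hfN e he w hw]
        refine (hk5 e he).resolve_left fun h => hbn (hmemU _ (hA'T hb) (kp_eq_one_iff.1 ?_))
        rw [hkEV f hfN e he w hw, h]
      have h2 : kp (e' * w') f = v := by
        rw [hkEV f hfN e' he' w' hw']
        refine (hk5 e' he').resolve_left fun h => hcn (hmemU _ (hA'T hc) (kp_eq_one_iff.1 ?_))
        rw [hkEV f hfN e' he' w' hw', h]
      rw [kp_mul_left, h1, h2, S.Tv _ (hA'T hb), hvv]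
    have hge2 : 2 ≤ cidx U (E ⊔ V) := two_le_rel (x := f) hfU fun h => by
      have h1 := mem_centralizer_iff.1 h e0 (mem_sup_left he0)
      rw [kp_eq_one_iff.2 h1] at he0f
      exact S.v1 he0f.symm
    have hA'' := off_eq hA' hUe (hUN.trans S.NQ) (hle2.trans hge2)
    have hUc : ∀ u ∈ U, ∀ y ∈ N, u * y = y * u := fun u hu y hy => S.Nc _ (hUN hu) _ hy
    have hK := S.K3 _ hA'' r2 hr2N (by
      intro y hy
      have hc : (E ⊔ V) ⊓ centralizer (U : Set G) ≤ centralizer (U : Set G) := inf_le_right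
      obtain ⟨b, hb, u, hu, rfl⟩ := mem_sup_comm hc hy
      obtain ⟨e, he, w, hw, rfl⟩ := hEVm b hb.1
      have h1 : kp u r2 = 1 := kp_eq_one_iff.2 (hUc u hu _ hr2N)
      have h2 : kp (e * w * u) r2 = kp e r2 := by
        rw [kp_mul_left, h1, hkEV r2 hr2N e he w hw]; group
      rw [h2]
      apply hk4 e he
      rw [← hkEV f hfN e he w hw, kp_eq_one_iff]
      exact (mem_centralizer_iff.1 hb.2 f hfU).symm)
    have hstar : ∀ e ∈ E, kp e f = 1 → e * r2 = r2 * e := by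
      intro e he h
      refine hK e (mem_sup_left ⟨mem_sup_left he, hmemU e (hET he) (kp_eq_one_iff.1 h)⟩)
    have hE2 : cidx E U2 ≤ 2 := by
      refine rel_le_two fun b hb c hc hbn hcn => ?_
      have h1 : kp b f = v := (hk5 b hb).resolve_left fun h => hbn (hEU b hb (hstar b hb h))
      have h2 : kp c f = v := (hk5 c hc).resolve_left fun h => hcn (hEU c hc (hstar c hc h))
      refine hEU _ (E.mul_mem hb hc) (hstar _ (E.mul_mem hb hc) ?_)
      rw [kp_mul_left, h1, h2, S.Tv _ (hET hb), hvv]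
    have h4 : cidx A U2 ≤ 4 := by
      rw [hstep]
      exact (Nat.mul_le_mul hcAV hE2)
    have h6 : 6 ≤ cidx U2 A := by
      have h7 := cidx_chain_right U2 (B := A) (E := zpowers e0) ((zpowers_le).2 (hEA he0))
      have h8 : 3 ≤ cidx U2 (zpowers e0) := by
        have hno : ∀ y, kp e0 y ≠ 1 → y ∉ centralizer ((zpowers e0 : Subgroup G) : Set G) := fun y hy h =>
          hy (kp_eq_one_iff.2 (mem_centralizer_iff.1 h e0 (mem_zpowers _)))
        refine three_le_rel hr2U hr3U (hno _ hne1) (hno _ ?_) (hno _ ?_)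
        · rw [hk3 e0 he0]
          exact fun h => hne1 (conj_eq_one_iff.1 h)
        · rw [← hf, he0f]; exact S.v1
      have h9 : 2 ≤ (U2 ⊓ centralizer (A : Set G)).relIndex (U2 ⊓ centralizer ((zpowers e0 : Subgroup G) : Set G)) := by
        have h10 : x ∈ centralizer ((zpowers e0 : Subgroup G) : Set G) := by
          rw [mem_centralizer_iff]
          rintro _ ⟨n, rfl⟩
          exact ((show Commute e0 x from hEV e0 he0 x hxV).zpow_left n).eq
        refine two_le_rel (x := x) ⟨hVU hxV, h10⟩ ?_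
        · rintro ⟨-, h⟩
          have h1 := mem_centralizer_iff.1 h a haA
          rw [h1] at hax
          have h2 : x = v * x := by rw [← hax]; group
          exact S.v1 (mul_eq_right.1 h2.symm)
      rw [h7]
      calc 6 = 3 * 2 := by norm_num
        _ ≤ _ := Nat.mul_le_mul h8 h9
    omega
  -- **(1b)**
  have h1b : ∀ e ∈ E, e * r2 = r2 * e := by
    have hK := S.K3 _ hA' r2 hr2N (by
      intro y hy
      obtain ⟨e, he, w, hw, rfl⟩ := mem_sup_comm hEVc hy
      have h1 : kp w r2 = 1 := kp_eq_one_iff.2 (S.Nc _ (S.VN hw) _ hr2N)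
      have h2 : kp (e * w) r2 = kp e r2 := by rw [kp_mul_left, h1]; group
      rw [h2]
      exact h1a e he)
    exact fun e he => hK e (mem_sup_left he)
  have hE1 : cidx E U2 = 1 := cidx_eq_one_iff.2 fun e he => hEU e he (h1b e he)
  have hle : cidx U2 A ≤ 2 := by
    refine hU2off.trans ?_
    rw [hstep, hE1, mul_one]
    exact hcAV
  obtain ⟨w, hw, hwA⟩ : ∃ w, (w = 1 ∨ w = x) ∧ r2 * w ∈ centralizer (A : Set G) := by
    by_contra hcon
    push Not at hcon
    have h1 := hcon 1 (Or.inl rfl)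
    have h2 := hcon x (Or.inr rfl)
    rw [mul_one] at h1
    have h3 : x ∉ centralizer (A : Set G) := fun h => by
      have h1 := mem_centralizer_iff.1 h a haA
      rw [h1] at hax
      have h2 : x = v * x := by rw [← hax]; group
      exact S.v1 (mul_eq_right.1 h2.symm)
    have h4 := three_le_rel hr2U (hVU hxV) h1 h3 h2
    change 3 ≤ cidx U2 A at h4
    omega
  -- **(1c)**
  set h : G := l⁻¹ * a * l with hh
  have hhP : h ∈ P := P.mul_mem (P.mul_mem hl' haP) hl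
  set x' : G := l⁻¹ * v * l with hx'
  have hx'V : x' ∈ V := by
    have := S.PV l⁻¹ hl' v S.vV
    rwa [inv_inv] at this
  have hx'1 : x' ≠ 1 := fun e => S.v1 (by
    have : v = l * x' * l⁻¹ := by rw [hx']; group
    rw [this, e]; group)
  have hx'v : x' ≠ v := fun e => hlv (by
    have : l * x' * l⁻¹ = v := by rw [hx']; group
    rw [e] at this; exact this)
  have hx'N : x' ∈ N := S.VN hx'V
  have hax' : a * x' * a⁻¹ = v * x' := (S.act hx'V hx'1 hx'v haT).resolve_left haV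
  have hkx' : kp a x' = v := by unfold kp; rw [hax']; group
  have hhx' : h * x' = x' * h := by
    have h1 : a * v = v * a := by
      calc a * v = a * v * a⁻¹ * a := by group
        _ = v * a := by rw [S.Tv a haT]
    rw [hh, hx']
    calc l⁻¹ * a * l * (l⁻¹ * v * l) = l⁻¹ * (a * v) * l := by group
      _ = l⁻¹ * (v * a) * l := by rw [h1]
      _ = l⁻¹ * v * l * (l⁻¹ * a * l) := by group
  have hhv : h * v * h⁻¹ ≠ v := by
    intro e
    have h1 : a * x * a⁻¹ = x := by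
      have e1 : a * x * a⁻¹ = l * (h * v * h⁻¹) * l⁻¹ := by rw [hh, hx]; group
      rw [e1, e, hx]
    rw [h1] at hax
    exact S.v1 (mul_eq_right.1 hax.symm)
  -- `c₀ = r w₀`
  obtain ⟨w0, hw0, hw0h⟩ : ∃ w0, (w0 = 1 ∨ w0 = v) ∧ h * (r * w0) = (r * w0) * h := by
    refine ⟨l⁻¹ * w * l, ?_, ?_⟩
    · rcases hw with e | e
      · left; rw [e]; group
      · right; rw [e, hx]; group
    · have h1 := mem_centralizer_iff.1 hwA a haA
      rw [hr2] at h1
      rw [hh]
      calc l⁻¹ * a * l * (r * (l⁻¹ * w * l)) = l⁻¹ * (a * (l * r * l⁻¹ * w)) * l := by group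
        _ = l⁻¹ * (l * r * l⁻¹ * w * a) * l := by rw [h1]
        _ = r * (l⁻¹ * w * l) * (l⁻¹ * a * l) := by group
  have hw0V : w0 ∈ V := by
    rcases hw0 with e | e
    · rw [e]; exact one_mem _
    · rw [e]; exact S.vV
  have hrw0 : r * w0 ∈ N := N.mul_mem hr (S.VN hw0V)
  have hka : kp a (r * w0) = kp a r := by
    rw [S.kp_mul' haP hr (S.VN hw0V)]
    have : kp a w0 = 1 := by
      rw [kp_eq_one_iff]
      rcases hw0 with e | e
      · rw [e]; group
      · rw [e]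
        calc a * v = a * v * a⁻¹ * a := by group
          _ = v * a := by rw [S.Tv a haT]
    rw [this, mul_one]
  obtain ⟨c, hcN, ⟨w1, hw1, hcw⟩, hch, hca⟩ : ∃ c ∈ N, (∃ w ∈ V, c = r * w) ∧ h * c = c * h ∧
      (kp a c = 1 ∨ kp a c = z) := by
    have hcase : (kp a (r * w0) = 1 ∨ kp a (r * w0) = z) ∨ (kp a (r * w0) = v ∨ kp a (r * w0) = z * v) := by
      rw [hka]
      rcases hrT a haT with e | e | e | e
      · exact Or.inl (Or.inl e)
      · exact Or.inl (Or.inr e)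
      · exact Or.inr (Or.inl e)
      · exact Or.inr (Or.inr e)
    rcases hcase with e | e
    · exact ⟨r * w0, hrw0, ⟨w0, hw0V, rfl⟩, hw0h, e⟩
    · refine ⟨r * w0 * x', N.mul_mem hrw0 hx'N, ⟨w0 * x', V.mul_mem hw0V hx'V, by group⟩, ?_, ?_⟩
      · calc h * (r * w0 * x') = (h * (r * w0)) * x' := by group
          _ = (r * w0) * (h * x') := by rw [hw0h]; group
          _ = r * w0 * x' * h := by rw [hhx']; group
      · rw [S.kp_mul' haP hrw0 hx'N, hkx']
        rcases e with e | e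
        · left; rw [e, hvv]
        · right; rw [e, mul_assoc, hvv, mul_one]
  -- elements of `R = C_T(V)`
  have hR : ∀ e ∈ T, (∀ y ∈ V, e * y = y * e) → kp e c = 1 ∨ kp e c = z := by
    intro e he heV
    have hkr : ∀ e ∈ T, (∀ y ∈ V, e * y = y * e) → kp e c = kp e r := by
      intro e he heV
      rw [hcw, S.kp_mul' (S.TP he) hr (S.VN hw1), kp_eq_one_iff.2 (heV w1 hw1), mul_one]
    have h1 := hrT e he
    rw [← hkr e he heV] at h1
    have h2 : h * e * h⁻¹ ∈ T := S.PR h hhP e he heV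
    have h3 : ∀ y ∈ V, h * e * h⁻¹ * y = y * (h * e * h⁻¹) := by
      intro y hy
      have h4 := heV _ (by
        have := S.PV h⁻¹ (P.inv_mem hhP) y hy
        rwa [inv_inv] at this : h⁻¹ * y * h ∈ V)
      calc h * e * h⁻¹ * y = h * (e * (h⁻¹ * y * h)) * h⁻¹ := by group
        _ = h * ((h⁻¹ * y * h) * e) * h⁻¹ := by rw [h4]
        _ = y * (h * e * h⁻¹) := by group
    have h5 := hrT _ h2
    rw [← hkr _ h2 h3] at h5
    have h6 : h * kp e c * h⁻¹ = kp (h * e * h⁻¹) c := by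
      rw [kp_conj]
      congr 1
      rw [hch]; group
    rw [← h6] at h5
    -- `v' = h v h⁻¹`
    have hv'V := S.PV h hhP v S.vV
    have hv'1 : h * v * h⁻¹ ≠ 1 := fun e => S.v1 (conj_eq_one_iff.1 e)
    set v' : G := h * v * h⁻¹ with hv'
    have hv'N := S.VN hv'V
    have hno : ¬ (v' = 1 ∨ v' = z ∨ v' = v ∨ v' = z * v) := by
      rintro (e | e | e | e)
      · exact hv'1 e
      · exact S.zV (e ▸ hv'V)
      · exact hhv e
      · apply S.zV
        have h7 : z = v' * v := by rw [e, mul_assoc, hvv, mul_one]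
        rw [h7]; exact V.mul_mem hv'V S.vV
    have hno2 : ¬ (z * v' = 1 ∨ z * v' = z ∨ z * v' = v ∨ z * v' = z * v) := by
      rintro (e | e | e | e)
      · apply hno; right; left
        calc v' = z * (z * v') := by rw [← mul_assoc, hzz, one_mul]
          _ = z := by rw [e, mul_one]
      · exact hv'1 (mul_eq_left.1 e)
      · apply hno; right; right; right
        rw [← e, ← mul_assoc, hzz, one_mul]
      · exact hhv (mul_left_cancel e)
    rcases h1 with h1 | h1 | h1 | h1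
    · exact Or.inl h1
    · exact Or.inr h1
    · exfalso
      rw [h1, ← hv'] at h5
      exact hno h5
    · exfalso
      have e1 : h * (z * v) * h⁻¹ = (h * z * h⁻¹) * (h * v * h⁻¹) := by group
      rw [h1, e1, S.Pz h hhP, ← hv'] at h5
      exact hno2 h5
  have hT : ∀ t ∈ T, kp t c = 1 ∨ kp t c = z := by
    intro t ht
    by_cases htV : ∀ y ∈ V, t * y = y * t
    · exact hR t ht htV
    -- `e = t a⁻¹` centralises `V`
    have ht1 : t * x * t⁻¹ = v * x := (S.act hxV hx1 hxv ht).resolve_left htV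
    have heT : t * a⁻¹ ∈ T := T.mul_mem ht (T.inv_mem haT)
    have heV : ∀ y ∈ V, t * a⁻¹ * y = y * (t * a⁻¹) := by
      rcases S.act hxV hx1 hxv heT with e | e
      · exact e
      · exfalso
        -- `a⁻¹ x a = v x`
        have h7 : a⁻¹ * x * a = v * x := by
          have h8 : a⁻¹ * v * a = v := by
            have := S.Tv a⁻¹ (T.inv_mem haT)
            rwa [inv_inv] at this
          have h9 : x = (a⁻¹ * v * a) * (a⁻¹ * x * a) := by
            calc x = a⁻¹ * (a * x * a⁻¹) * a := by group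
              _ = (a⁻¹ * v * a) * (a⁻¹ * x * a) := by rw [hax]; group
          rw [h8] at h9
          calc a⁻¹ * x * a = (v * v) * (a⁻¹ * x * a) := by rw [hvv, one_mul]
            _ = v * (v * (a⁻¹ * x * a)) := by group
            _ = v * x := by rw [← h9]
        have h10 : t * a⁻¹ * x * (t * a⁻¹)⁻¹ = v * (v * x) := by
          calc t * a⁻¹ * x * (t * a⁻¹)⁻¹ = t * (a⁻¹ * x * a) * t⁻¹ := by group
            _ = (t * v * t⁻¹) * (t * x * t⁻¹) := by rw [h7]; group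
            _ = v * (v * x) := by rw [S.Tv t ht, ht1]
        rw [e] at h10
        exact S.v1 (mul_eq_right.1 (mul_left_cancel h10).symm)
    have h1 := hR _ heT heV
    have h2 : kp t c = (t * a⁻¹) * kp a c * (t * a⁻¹)⁻¹ * kp (t * a⁻¹) c := by
      rw [← kp_mul_left]
      congr 1
      group
    rw [h2]
    rcases hca with e | e <;> rcases h1 with e' | e'
    · left; rw [e, e']; group
    · right; rw [e, e']; group
    · right; rw [e, e', S.Pz _ (S.TP heT), mul_one]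
    · left; rw [e, e', S.Pz _ (S.TP heT), hzz]
  exact ⟨c, hcN, ⟨w1, hw1, hcw⟩, hT, S.K3 A hA c hcN fun b hb => hT b (hAT hb)⟩

/-- `(2)` of THEOREM I: `r ∈ N ⊓ N'` with `[r,T] ≤ ⟨z, v⟩` satisfies `[r,T] ≤ ⟨z⟩`. -/
theorem two [Finite G] (S : Side T Qs N V P z v) {N' : Subgroup G}
    (K3' : ∀ A ∈ AA Qs, ∀ x ∈ N', (∀ a ∈ A, kp a x = 1 ∨ kp a x = v) → ∀ a ∈ A, a * x = x * a)
    (hA : A ∈ AA Qs) (hAV : ¬ ∀ a ∈ A, ∀ x ∈ V, a * x = x * a)
    {r : G} (hr : r ∈ N) (hr' : r ∈ N') (hrT : ∀ t ∈ T, kp t r = 1 ∨ kp t r = z ∨ kp t r = v ∨ kp t r = z * v) :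
    ∀ t ∈ T, kp t r = 1 ∨ kp t r = z := by
  have hAT : A ≤ T := hA.2.1.trans S.QT
  obtain ⟨c, hcN, ⟨x, hx, hcx⟩, hcT, hcA⟩ := S.one hA hAV hr hrT
  have hxN := S.VN hx
  have hrc : r = c * x := by rw [hcx, mul_assoc, S.Nsq x hxN, mul_one]
  -- `A` centralises `r`
  have h1 : ∀ a ∈ A, kp a r = kp a x := by
    intro a ha
    rw [hrc, S.kp_mul' (S.TP (hAT ha)) hcN hxN, kp_eq_one_iff.2 (hcA a ha), one_mul]
  have h2 : ∀ a ∈ A, a * r = r * a := K3' A hA r hr' fun a ha => by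
    rw [h1 a ha]; exact S.kpV hx (hAT ha)
  have h3 : ∀ a ∈ A, a * x = x * a := fun a ha => by
    rw [← kp_eq_one_iff, ← h1 a ha, kp_eq_one_iff]; exact h2 a ha
  -- so `x ∈ ⟨v⟩`
  have h4 : x = 1 ∨ x = v := by
    by_contra hcon
    push Not at hcon
    apply hAV
    intro a ha
    refine (S.act hx hcon.1 hcon.2 (hAT ha)).resolve_right fun h => S.v1 ?_
    rw [h3 a ha] at h
    have h5 : x = v * x := by rw [← h]; group
    exact mul_eq_right.1 h5.symm
  intro t ht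
  have h5 : kp t x = 1 := by
    rw [kp_eq_one_iff]
    rcases h4 with e | e
    · rw [e]; group
    · rw [e]
      calc t * v = t * v * t⁻¹ * t := by group
        _ = v * t := by rw [S.Tv t ht]
  rw [hrc, S.kp_mul' (S.TP ht) hcN hxN, h5, mul_one]
  exact hcT t ht

end Side

/-- **THEOREM I**: two sides, with members of `AA Qs` moving `V` and `V'`; then `N ⊓ N' ≤ ⟨z, v⟩`. -/
theorem inter_le [Finite G] {T Qs N V P N' V' P' A A' : Subgroup G} {z v : G} (hT : IsPGroup 2 T)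
    (S : Side T Qs N V P z v) (S' : Side T Qs N' V' P' v z)
    (hA : A ∈ AA Qs) (hAV : ¬ ∀ a ∈ A, ∀ x ∈ V, a * x = x * a)
    (hA' : A' ∈ AA Qs) (hAV' : ¬ ∀ a ∈ A', ∀ x ∈ V', a * x = x * a)
    (hz : ∀ x ∈ N ⊓ N', (∀ t ∈ T, t * x = x * t) → x = 1 ∨ x = z ∨ x = v ∨ x = z * v) :
    ∀ x ∈ N ⊓ N', x = 1 ∨ x = z ∨ x = v ∨ x = z * v := by
  have hzT : ∀ t ∈ T, t * z * t⁻¹ = z := fun t ht => S.Pz t (S.TP ht)
  have hvT : ∀ t ∈ T, t * v * t⁻¹ = v := S.Tv
  have hzv : z * v = v * z := S.Nc _ S.zN _ S.vN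
  -- the group `Y = ⟨z, v⟩`
  let Y : Subgroup G :=
    { carrier := {x | x = 1 ∨ x = z ∨ x = v ∨ x = z * v}
      one_mem' := Or.inl rfl
      mul_mem' := by
        have hzz := S.Nsq z S.zN
        have hvv := S.Nsq v S.vN
        rintro a b (rfl | rfl | rfl | rfl) (rfl | rfl | rfl | rfl)
        all_goals simp only [Set.mem_ofPred_eq]
        · simp
        · simp
        · simp
        · simp
        · simp
        · simp [hzz]
        · simp
        · right; right; left; rw [← mul_assoc, hzz, one_mul]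
        · simp
        · right; right; right; exact hzv.symm
        · simp [hvv]
        · right; left; rw [hzv, ← mul_assoc, hvv, one_mul]
        · simp
        · right; right; left; rw [hzv, mul_assoc, hzz, mul_one]
        · right; left; rw [mul_assoc, hvv, mul_one]
        · left; rw [hzv, mul_assoc, ← mul_assoc z v z, hzv, mul_assoc v z z, hzz, mul_one, hvv]
      inv_mem' := by
        have hzz := S.Nsq z S.zN
        have hvv := S.Nsq v S.vN
        have hzi : z⁻¹ = z := inv_eq_of_mul_eq_one_left hzz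
        have hvi : v⁻¹ = v := inv_eq_of_mul_eq_one_left hvv
        rintro a (rfl | rfl | rfl | rfl)
        all_goals simp only [Set.mem_ofPred_eq]
        · simp
        · right; left; exact hzi
        · right; right; left; exact hvi
        · right; right; right; rw [mul_inv_rev, hzi, hvi, hzv] }
  have hYm : ∀ x, x ∈ Y ↔ x = 1 ∨ x = z ∨ x = v ∨ x = z * v := fun x => Iff.rfl
  by_contra hcon
  have hne : ¬ N ⊓ N' ≤ Y := hcon
  have hTN : T ≤ normalizer ((N ⊓ N' : Subgroup G) : Set G) := by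
    intro t ht
    rw [mem_normalizer_iff]
    have key : ∀ t ∈ T, ∀ x ∈ N ⊓ N', t * x * t⁻¹ ∈ N ⊓ N' := fun t ht x hx =>
      ⟨S.PN t (S.TP ht) x hx.1, S'.PN t (S'.TP ht) x hx.2⟩
    intro x
    refine ⟨key t ht x, fun h => ?_⟩
    have h1 := key t⁻¹ (T.inv_mem ht) _ h
    have e : t⁻¹ * (t * x * t⁻¹) * t⁻¹⁻¹ = x := by group
    rwa [e] at h1
  have hTY : T ≤ normalizer (Y : Set G) := by
    intro t ht
    rw [mem_normalizer_iff]
    have key : ∀ t ∈ T, ∀ x ∈ Y, t * x * t⁻¹ ∈ Y := by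
      rintro t ht x (rfl | rfl | rfl | rfl)
      · left; group
      · right; left; exact hzT t ht
      · right; right; left; exact hvT t ht
      · right; right; right
        calc t * (z * v) * t⁻¹ = (t * z * t⁻¹) * (t * v * t⁻¹) := by group
          _ = z * v := by rw [hzT t ht, hvT t ht]
    intro x
    refine ⟨key t ht x, fun h => ?_⟩
    have h1 := key t⁻¹ (T.inv_mem ht) _ h
    have e : t⁻¹ * (t * x * t⁻¹) * t⁻¹⁻¹ = x := by group
    rwa [e] at h1
  obtain ⟨r, hr, hrY, hrT⟩ := NOThreeL.FFB.exists_fix_mod hT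
    (inf_le_left.trans (S.NQ.trans S.QT)) hTN hTY hne
  have h1 := S.two S'.K3 hA hAV hr.1 hr.2 hrT
  have h2 := S'.two S.K3 hA' hAV' hr.2 hr.1 (fun t ht => by
    rcases hrT t ht with h | h | h | h
    · exact Or.inl h
    · exact Or.inr (Or.inr (Or.inl h))
    · exact Or.inr (Or.inl h)
    · exact Or.inr (Or.inr (Or.inr (by unfold kp; rw [h, hzv]))))
  apply hrY
  refine hz r hr fun t ht => kp_eq_one_iff.1 ?_
  rcases h1 t ht with h | h
  · exact h
  · rcases h2 t ht with h' | h'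
    · exact h'
    · exfalso
      apply S.zV
      rw [← h, h']; exact S.vV

end Cfsg.Agent.Omega.TC.ThmI

end

section


/-!
# CARD #18791: THEOREM EX (helper254 #21690) and THEOREM EX-R (helper909 #21924) over `TC.Fr`, both sides

`D : Fr T V P v`, `hML : MLK`, `hK : ∀ i, IsKGroup (CC v i)`; `O = O₂(D)`, `Z_i = ZV V v i = ⟨v (i+1) ^ C_G(V i)⟩ ≤ N_i`.
No swap, no hypothesis on `V i ≤ N_i`, any distance `d`.

* `AA_sub` : `AA (Q_i) ⊆ AA O`;
* `ex_inf`, `Fr.dich` : **(1) of #21690**: for `A ∈ AA (Q_(i+1))` the group `C_A(Z_i)` is exact on `N_i` or centralises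
  it, and it lies in `O₂(C_G(V i))`;
* `Fail V v i` : `C_A(Z_i) = C_A(N_i)` for all `A ∈ AA (Q_(i+1))`; `Fr.fail_norm` : then `N_i N_(i+1)` is normal in
  `C_(i+1)` (and `Fr.fail_K1`, `Fr.fail_mul` : `C_(i+1) = K_1 D`, `[⟨N_i ^ C_(i+1)⟩ N_(i+1), K_1] ≤ N_(i+1)`);
* `Fr.exBoth` : **for some `i` there is an elementary abelian `B ≤ Q_(i+1)`, `B ≤ O₂(C_G(V i))`, exact on `N_i`, moving
  `N_i`**; `Fr.exBoth_plug` : the form of the plug of THEOREM KL if `V i ≤ N_i` for both `i`.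
-/

set_option autoImplicit false
set_option linter.unusedSectionVars false

namespace Cfsg.Agent.Omega.TC.ExBoth

open Subgroup Cfsg Cfsg.Agent.ZN Cfsg.Agent.Omega.MinPar Cfsg.Agent.Omega.TC.LemZ
open Cfsg.Agent.Omega.OM.KTwo (CC QQ WU NU EU ne_add_one eq_add_one add_one_add_one le_normalizer_V le_V)
open Cfsg.Agent.Omega.NoFF.Basic (conj_conj mem_conj conj_le_iff comm_symm comm_mono Z_le_V V_le)
open Cfsg.Agent.Omega.NOThreeL.Pair (conj_eq_of_mem conj_le_normalizer)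
open Cfsg.Agent.ZN.ChoiceBase (AA cj cj_cj cj_mono cj_inf cj_centralizer cj_mem_AA cj_eq_of_mem_normalizer
  mem_normalizer_iff_cj mem_normalizer_of_cj_le AA_nonempty card_le_mm mm_eq)
open Cfsg.Agent.MinSimple.VModule (o2_isPGroup le_centralizer_zc)
open Cfsg.Agent.Omega.NO3b.Ineq (cidx rel_ne)
open Cfsg.Agent.Omega.NO3S.EThree.ExactA (eab_iff eab_mono eab_sup)
open Cfsg.Agent.Omega.OM.PG.Int (Ex)
open scoped Pointwise

universe u

variable {G : Type u} [Group G]

/-! ### A count -/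

/-- `A` exact on `N`, `|A : C_A(Z)| ≤ |Z : C_Z(A)|`, `Z ≤ N`, (NO) for `C_A(Z)`: `C_A(Z)` is exact on `N`. -/
theorem ex_inf [Finite G] {A Z N : Subgroup G} (hZN : Z ≤ N) (hN : N ≤ centralizer (N : Set G))
    (h1 : (centralizer (Z : Set G)).relIndex A ≤ (centralizer (A : Set G)).relIndex Z)
    (h3 : (centralizer (N : Set G)).relIndex A = (centralizer (A : Set G)).relIndex N)
    (h2 : (centralizer (N : Set G)).relIndex (A ⊓ centralizer (Z : Set G) : Subgroup G) ≤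
      (centralizer ((A ⊓ centralizer (Z : Set G) : Subgroup G) : Set G)).relIndex N) :
    Ex (A ⊓ centralizer (Z : Set G)) N := by
  set B : Subgroup G := A ⊓ centralizer (Z : Set G) with hB
  set Y : Subgroup G := N ⊓ centralizer (A : Set G) with hY
  have hBA : B ≤ A := inf_le_left
  have c1 : Nat.card A = Nat.card B * (centralizer (Z : Set G)).relIndex A := card_eq A _
  have c2 : Nat.card A = Nat.card (A ⊓ centralizer (N : Set G) : Subgroup G) * (centralizer (N : Set G)).relIndex A :=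
    card_eq A _
  have hBN : B ⊓ centralizer (N : Set G) = A ⊓ centralizer (N : Set G) := by
    apply le_antisymm
    · exact inf_le_inf_right _ hBA
    · exact le_inf (le_inf inf_le_left (inf_le_right.trans (centralizer_le hZN))) inf_le_right
  have c3 : Nat.card B = Nat.card (A ⊓ centralizer (N : Set G) : Subgroup G) * (centralizer (N : Set G)).relIndex B := by
    rw [← hBN]; exact card_eq B _
  have c4 : Nat.card N = Nat.card Y * (centralizer (A : Set G)).relIndex N := card_eq N _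
  have c5 : Nat.card N = Nat.card (N ⊓ centralizer (B : Set G) : Subgroup G) * (centralizer (B : Set G)).relIndex N :=
    card_eq N _
  have hYZ : Y ≤ centralizer (Z : Set G) := (inf_le_left.trans hN).trans (centralizer_le hZN)
  have c6 : Nat.card (Z ⊔ Y : Subgroup G) = (centralizer (A : Set G)).relIndex Z * Nat.card Y := by
    have h4 := PLocal.ElemAbSup.card_sup_mul_card_inf hYZ
    have h5 : Z ⊓ Y = Z ⊓ centralizer (A : Set G) := by
      rw [hY, ← inf_assoc, inf_eq_left.2 hZN]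
    rw [h5] at h4
    have h6 : Nat.card Z = Nat.card (Z ⊓ centralizer (A : Set G) : Subgroup G) * (centralizer (A : Set G)).relIndex Z :=
      card_eq Z _
    have hpos : 0 < Nat.card (Z ⊓ centralizer (A : Set G) : Subgroup G) := Nat.card_pos
    have h7 : Nat.card (Z ⊔ Y : Subgroup G) * Nat.card (Z ⊓ centralizer (A : Set G) : Subgroup G) =
        ((centralizer (A : Set G)).relIndex Z * Nat.card Y) * Nat.card (Z ⊓ centralizer (A : Set G) : Subgroup G) := by
      rw [h4, h6]; ring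
    exact Nat.eq_of_mul_eq_mul_right hpos h7
  have hle : Z ⊔ Y ≤ N ⊓ centralizer (B : Set G) := by
    refine sup_le (le_inf hZN (comm_symm inf_le_right)) (le_inf inf_le_left ?_)
    exact inf_le_right.trans (centralizer_le hBA)
  set a := (centralizer (Z : Set G)).relIndex A
  set b := (centralizer (A : Set G)).relIndex Z
  set r := (centralizer (N : Set G)).relIndex A
  set s := (centralizer (N : Set G)).relIndex B
  set t := (centralizer (B : Set G)).relIndex N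
  set y' := Nat.card (A ⊓ centralizer (N : Set G) : Subgroup G)
  set y := Nat.card Y
  set c := Nat.card (N ⊓ centralizer (B : Set G) : Subgroup G)
  have hy' : 0 < y' := Nat.card_pos
  have hc : 0 < c := Nat.card_pos
  have hra : r = a * s := by
    have h4 : y' * r = y' * (a * s) := by
      calc y' * r = Nat.card A := c2.symm
        _ = y' * (a * s) := by rw [c1, c3]; ring
    exact Nat.eq_of_mul_eq_mul_left hy' h4
  have hyb : b * y ≤ c := by
    rw [← c6]; exact Subgroup.card_le_of_le hle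
  have hyr : y * r = c * t := by rw [← c5, c4, h3]
  have e1 : y * (a * s) = c * t := by rw [← hra]; exact hyr
  have l1 : y * (a * s) ≤ (b * y) * s := by
    calc y * (a * s) = a * (y * s) := by ring
      _ ≤ b * (y * s) := Nat.mul_le_mul_right _ h1
      _ = (b * y) * s := by ring
  have l2 : (b * y) * s ≤ c * s := Nat.mul_le_mul_right _ hyb
  have l3 : c * s ≤ c * t := Nat.mul_le_mul_left _ h2
  have e2 : c * s = c * t := le_antisymm l3 (by rw [← e1]; exact l1.trans l2)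
  exact Nat.eq_of_mul_eq_mul_left hc e2

/-- `m ∈ A N`, `[A, m] ≤ N` for `A` abelian normalising `N`. -/
theorem comm_mem {C A N : Subgroup G} (hAC : A ≤ C) (hCN : C ≤ normalizer (N : Set G))
    (hA : ∀ a ∈ A, ∀ b ∈ A, a * b = b * a) {K : Subgroup G} (hK : K ≤ A) {m b : G} (hm : m ∈ K ⊔ N) (hb : b ∈ A) :
    b * m * b⁻¹ * m⁻¹ ∈ N := by
  obtain ⟨n, hn, a, ha, rfl⟩ := OM.KTwo.exists_mul_of_mem_sup ((hK.trans hAC).trans hCN)
    (by rwa [sup_comm] at hm)
  have hba := hA b hb a (hK ha)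
  have e : b * (n * a) * b⁻¹ * (n * a)⁻¹ = b * n * b⁻¹ * n⁻¹ := by
    calc b * (n * a) * b⁻¹ * (n * a)⁻¹ = b * n * (a * b⁻¹) * a⁻¹ * n⁻¹ := by group
      _ = b * n * (b⁻¹ * a) * a⁻¹ * n⁻¹ := by
        have h1 : a * b⁻¹ = b⁻¹ * a := by
          calc a * b⁻¹ = b⁻¹ * (b * a) * b⁻¹ := by group
            _ = b⁻¹ * (a * b) * b⁻¹ := by rw [hba]
            _ = b⁻¹ * a := by group
        rw [h1]
      _ = b * n * b⁻¹ * n⁻¹ := by group
  rw [e]
  exact mul_mem ((mem_normalizer_iff.1 (hCN (hAC hb)) n).1 hn) (inv_mem hn)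

variable [Finite G] {T : Subgroup G} {V P : Fin 2 → Subgroup G} {v : Fin 2 → G} (D : Fr T V P v)

include D

theorem f3' (i : Fin 2) {A : Subgroup G} (hA : A ≤ o2 (centralizer (zc T : Set G)))
    (hc : A ≤ centralizer (NU V v i : Set G)) : A ≤ QQ v i := (le_inf hA hc).trans (D.f3 i)

section no

variable (hML : ML.Final.MLK.{u, u}) (hK : ∀ i, IsKGroup (CC v i))

include hML hK

/-- `A^# = C_A(N_i) N_i` -/
theorem sharp (i : Fin 2) {A : Subgroup G} (hA : A ∈ AA (o2 (centralizer (zc T : Set G)))) :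
    Ex A (NU V v i) ∧ NU V v i ⊓ centralizer (A : Set G) ≤ A ∧
      (A ⊓ centralizer (NU V v i : Set G)) ⊔ NU V v i ∈ AA (o2 (centralizer (zc T : Set G))) ∧
      (A ⊓ centralizer (NU V v i : Set G)) ⊔ NU V v i ≤ QQ v i := by
  obtain ⟨h1, h2, h3⟩ := D.exact_AA (NoInt.noD D hML hK) i hA
  exact ⟨h1, h2, h3, sup_le (f3' D i (inf_le_left.trans hA.2.1) inf_le_right) (D.N_le_Q i)⟩

/-- `AA (Q_i) ⊆ AA O₂(D)` -/
theorem AA_sub {i : Fin 2} {A : Subgroup G} (hA : A ∈ AA (QQ v i)) : A ∈ AA (o2 (centralizer (zc T : Set G))) := by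
  obtain ⟨A₀, hA₀⟩ := AA_nonempty (o2 (centralizer (zc T : Set G)))
  obtain ⟨-, -, h1, h2⟩ := sharp D hML hK i hA₀
  refine ⟨hA.1, hA.2.1.trans (D.Q_le_o2D i), fun B hB hBO => ?_⟩
  exact (h1.2.2 B hB hBO).trans (hA.2.2 _ h1.1 h2)

omit hML hK in
theorem AA_of {i : Fin 2} {A : Subgroup G} (hA : A ∈ AA (o2 (centralizer (zc T : Set G)))) (hAQ : A ≤ QQ v i) :
    A ∈ AA (QQ v i) := ⟨hA.1, hAQ, fun B hB hBQ => hA.2.2 B hB (hBQ.trans (D.Q_le_o2D i))⟩

/-- `A^# ∈ AA (Q_i)` -/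
theorem sharp_mem (i : Fin 2) {A : Subgroup G} (hA : A ∈ AA (o2 (centralizer (zc T : Set G)))) :
    (A ⊓ centralizer (NU V v i : Set G)) ⊔ NU V v i ∈ AA (QQ v i) :=
  AA_of D (sharp D hML hK i hA).2.2.1 (sharp D hML hK i hA).2.2.2

omit hML hK in
/-- the members of `AA (Q_(i+1))` centralise `V i` -/
theorem cent_V {i : Fin 2} {A : Subgroup G} (hA : A ≤ QQ v (i + 1)) : A ≤ centralizer (V i : Set G) := by
  have h1 : V i ≤ NU V v (i + 1) := by
    have := D.V_le_N (i + 1)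
    rwa [add_one_add_one] at this
  exact (hA.trans (D.Q_le_cent_N (i + 1))).trans (centralizer_le h1)

omit hK in
/-- `(NO)` for `Z_i` -/
theorem no_ZV {i : Fin 2} (hK : IsKGroup (CC v i)) {A : Subgroup G} (hA : IsElementaryAbelian 2 A)
    (hAO : A ≤ o2 (centralizer (zc T : Set G))) :
    (centralizer (ZV V v i : Set G)).relIndex A ≤ (centralizer (A : Set G)).relIndex (ZV V v i) := by
  have hHC : centralizer (V i : Set G) ⊔ T ≤ CC v i := sup_le (cent_V_le D i) (D.T_le_C i)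
  have h := D.no_H hML (A := A) hK (le_sup_right : T ≤ centralizer (V i : Set G) ⊔ T) hHC hAO
    ((hAO.trans D.o2D_le_T).trans le_sup_right) (eab_iff.1 hA).2
  rwa [NH_eq D i] at h

/-- **(1) of #21690**, exactness -/
theorem dich (i : Fin 2) {A : Subgroup G} (hA : A ∈ AA (o2 (centralizer (zc T : Set G)))) :
    Ex (A ⊓ centralizer (ZV V v i : Set G)) (NU V v i) := by
  refine ex_inf (ZV_le D i) (D.N_comm i) (no_ZV D hML (hK i) hA.1 hA.2.1) (sharp D hML hK i hA).1 ?_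
  exact NoInt.noD D hML hK i _ (eab_mono hA.1 inf_le_left) (inf_le_left.trans hA.2.1)

omit hML hK in
/-- **(1) of #21690**: `C_A(Z_i) ≤ O₂(C_G(V i))` -/
theorem le_o2_cent (i : Fin 2) {B : Subgroup G} (hBO : B ≤ o2 (centralizer (zc T : Set G)))
    (hBV : B ≤ centralizer (V i : Set G)) (hBZ : B ≤ centralizer (ZV V v i : Set G)) :
    B ≤ o2 (centralizer (V i : Set G)) := by
  set O := o2 (centralizer (zc T : Set G)) with hO
  set H : Subgroup G := centralizer (V i : Set G) ⊓ centralizer (ZV V v i : Set G) with hH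
  have hHD : H ≤ centralizer (zc T : Set G) := by
    intro x hx
    refine (D.mem_D_iff (ne_add_one i)).2 ⟨cent_V_le D i hx.1, ?_⟩
    exact centralizer_le (Set.singleton_subset_iff.2 (v_mem_ZV D i)) hx.2
  -- `O ⊓ H` is a normal 2-subgroup of `H`
  have h1 : O ⊓ H ≤ o2 H := by
    refine le_o2 inf_le_right ((o2_isPGroup _).to_le inf_le_left) ?_
    exact norm_inf (hHD.trans (le_normalizer_o2 _)) le_normalizer
  -- `H` is normal in `C_G(V i)`
  have h2 : centralizer (V i : Set G) ≤ normalizer (H : Set G) :=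
    norm_inf le_normalizer (norm_cent (K_le_N_ZV D i))
  have h3 : centralizer (V i : Set G) ≤ normalizer ((o2 H : Subgroup G) : Set G) :=
    h2.trans (Cfsg.Agent.Omega.normalizer_le_normalizer_o2' _)
  have h4 : o2 H ≤ o2 (centralizer (V i : Set G)) :=
    le_o2 ((o2_le _).trans inf_le_left) (o2_isPGroup _) h3
  exact (le_inf hBO (le_inf hBV hBZ)).trans (h1.trans h4)

end no

/-! ### The failure of side `i` -/

omit [Finite G] D in
/-- `C_A(Z_i) ≤ C_A(N_i)` for all `A ∈ AA (Q_(i+1))` -/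
def Fail (V : Fin 2 → Subgroup G) (v : Fin 2 → G) (i : Fin 2) : Prop :=
  ∀ A ∈ AA (QQ v (i + 1)), A ⊓ centralizer (ZV V v i : Set G) ≤ centralizer (NU V v i : Set G)

omit [Finite G] D in
/-- `A^# = C_A(N_i) N_i` -/
def sh (V : Fin 2 → Subgroup G) (v : Fin 2 → G) (i : Fin 2) (A : Subgroup G) : Subgroup G :=
  (A ⊓ centralizer (NU V v i : Set G)) ⊔ NU V v i

omit [Finite G] D in
/-- the family `{A^# : A ∈ AA (Q_(i+1))}` -/
def SS (V : Fin 2 → Subgroup G) (v : Fin 2 → G) (i : Fin 2) : Set (Subgroup G) :=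
  {S | ∃ A ∈ AA (QQ v (i + 1)), S = sh V v i A}

variable (hML : ML.Final.MLK.{u, u}) (hK : ∀ i, IsKGroup (CC v i))

include hML hK

/-- `A^# = C_A(Z_i) Z_i` -/
theorem sh_eq {i : Fin 2} (hF : Fail V v i) {A : Subgroup G} (hA : A ∈ AA (QQ v (i + 1))) :
    sh V v i A = (A ⊓ centralizer (ZV V v i : Set G)) ⊔ ZV V v i := by
  have hAO := AA_sub D hML hK hA
  obtain ⟨-, -, h1, -⟩ := sharp D hML hK i hAO
  have hZe : IsElementaryAbelian 2 (ZV V v i) := eab_mono (D.N_eab i) (ZV_le D i)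
  have h2 : (A ⊓ centralizer (ZV V v i : Set G)) ⊔ ZV V v i ∈ AA (o2 (centralizer (zc T : Set G))) :=
    ThmI.off_eq hAO hZe ((ZV_le D i).trans (D.N_le_oD i)) (no_ZV D hML (hK i) hA.1 hAO.2.1)
  refine (Subgroup.eq_of_le_of_card_ge (sup_le ?_ ((ZV_le D i).trans le_sup_right)) ?_).symm
  · exact (le_inf inf_le_left (hF A hA)).trans le_sup_left
  · exact h2.2.2 _ h1.1 h1.2.1

theorem sh_mem {i : Fin 2} {A : Subgroup G} (hA : A ∈ AA (QQ v (i + 1))) : sh V v i A ∈ AA (QQ v i) :=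
  sharp_mem D hML hK i (AA_sub D hML hK hA)

/-- `{A^#}` is invariant under `C_(i+1)` -/
theorem SS_inv {i : Fin 2} (hF : Fail V v i) {g : G} (hg : g ∈ CC v (i + 1)) {S : Subgroup G} (hS : S ∈ SS V v i) :
    cj g S ∈ SS V v i := by
  -- the stabiliser
  let K : Subgroup G :=
    { carrier := {g | ∀ S ∈ SS V v i, cj g S ∈ SS V v i ∧ cj g⁻¹ S ∈ SS V v i}
      one_mem' := fun S hS => by
        simp only [inv_one, ChoiceBase.cj_one]
        exact ⟨hS, hS⟩
      mul_mem' := by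
        intro a b ha hb S hS
        constructor
        · rw [← cj_cj]
          exact (ha _ (hb S hS).1).1
        · rw [mul_inv_rev, ← cj_cj]
          exact (hb _ (ha S hS).2).2
      inv_mem' := by
        intro a ha S hS
        refine ⟨(ha S hS).2, ?_⟩
        rw [inv_inv]
        exact (ha S hS).1 }
  have hof : ∀ L : Subgroup G, (∀ g ∈ L, ∀ S ∈ SS V v i, cj g S ∈ SS V v i) → L ≤ K := fun L hL g hg S hS =>
    ⟨hL g hg S hS, hL g⁻¹ (inv_mem hg) S hS⟩
  have hQ : ∀ g ∈ CC v (i + 1), ∀ A ∈ AA (QQ v (i + 1)), cj g A ∈ AA (QQ v (i + 1)) := by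
    intro g hg A hA
    have h1 := cj_mem_AA g hA
    have h2 : cj g (QQ v (i + 1)) = QQ v (i + 1) := D.conj_QQ hg
    rwa [h2] at h1
  -- `D`
  have h1 : centralizer (zc T : Set G) ≤ K := by
    refine hof _ ?_
    rintro d hd _ ⟨A, hA, rfl⟩
    refine ⟨cj d A, hQ d (D.cent_zc_le _ hd) A hA, ?_⟩
    have h2 : cj d (NU V v i) = NU V v i := conj_eq_of_mem (D.C_le_N_N i (D.cent_zc_le i hd))
    unfold sh
    rw [cj, Subgroup.map_sup]
    change cj d (A ⊓ centralizer (NU V v i : Set G)) ⊔ cj d (NU V v i) = _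
    rw [cj_inf, cj_centralizer, h2]
  -- `P i`
  have h2 : P i ≤ K := by
    refine hof _ ?_
    rintro p hp _ ⟨A, hA, rfl⟩
    have hp' : p ∈ CC v (i + 1) := D.PC i (i + 1) (ne_add_one i) hp
    refine ⟨cj p A, hQ p hp' A hA, ?_⟩
    have h2 : cj p (ZV V v i) = ZV V v i := conj_eq_of_mem (P_le_N_ZV D i hp)
    rw [sh_eq D hML hK hF hA, sh_eq D hML hK hF (hQ p hp' A hA)]
    rw [cj, Subgroup.map_sup]
    change cj p (A ⊓ centralizer (ZV V v i : Set G)) ⊔ cj p (ZV V v i) = _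
    rw [cj_inf, cj_centralizer, h2]
  exact ((D.gen (ne_add_one i)).trans (sup_le h2 h1) hg S hS).1

omit hML hK in
theorem SS_nonempty (i : Fin 2) : (SS V v i).Nonempty := by
  obtain ⟨A, hA⟩ := AA_nonempty (QQ v (i + 1))
  exact ⟨_, A, hA, rfl⟩

omit hML hK D in
theorem N_le_SS {i : Fin 2} {S : Subgroup G} (hS : S ∈ SS V v i) : NU V v i ≤ S := by
  obtain ⟨A, -, rfl⟩ := hS
  exact le_sup_right

theorem SS_mem {i : Fin 2} {S : Subgroup G} (hS : S ∈ SS V v i) : S ∈ AA (QQ v i) := by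
  obtain ⟨A, hA, rfl⟩ := hS
  exact sh_mem D hML hK hA

/-- `A^# ≤ Q_(i+1)` -/
theorem SS_le {i : Fin 2} (hF : Fail V v i) {S : Subgroup G} (hS : S ∈ SS V v i) : S ≤ QQ v (i + 1) := by
  set R : Subgroup G := sSup (SS V v i) with hR
  have h1 : R ≤ QQ v i := sSup_le fun S hS => (SS_mem D hML hK hS).2.1
  have h2 : CC v (i + 1) ≤ normalizer (R : Set G) := by
    intro g hg
    apply mem_normalizer_of_cj_le
    rw [ChoiceBase.cj_le_iff]
    refine sSup_le fun S hS => ?_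
    rw [← ChoiceBase.cj_le_iff]
    exact le_sSup (SS_inv D hML hK hF hg hS)
  have h3 : R ≤ QQ v (i + 1) :=
    ZN.le_o2 (h1.trans ((D.Q_le_T i).trans (D.T_le_C (i + 1)))) ((o2_isPGroup _).to_le h1) h2
  exact (le_sSup hS).trans h3

/-- `A^# ∈ AA (Q_(i+1))` -/
theorem SS_mem' {i : Fin 2} (hF : Fail V v i) {S : Subgroup G} (hS : S ∈ SS V v i) : S ∈ AA (QQ v (i + 1)) :=
  AA_of D (AA_sub D hML hK (SS_mem D hML hK hS)) (SS_le D hML hK hF hS)

/-- `M_(i+1) = ⟨N_i ^ C_(i+1)⟩ ≤ A^#` -/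
theorem M_le {i : Fin 2} (hF : Fail V v i) {S : Subgroup G} (hS : S ∈ SS V v i) :
    NoFF.Basic.V (NU V v i) (CC v (i + 1)) ≤ S := by
  refine V_le fun c hc => ?_
  change cj c (NU V v i) ≤ S
  rw [ChoiceBase.cj_le_iff]
  exact N_le_SS (SS_inv D hML hK hF (inv_mem hc) hS)

/-- `N_i ≤ Q_(i+1)` -/
theorem N_le_Q' {i : Fin 2} (hF : Fail V v i) : NU V v i ≤ QQ v (i + 1) := by
  obtain ⟨S, hS⟩ := SS_nonempty D i
  exact (N_le_SS hS).trans (SS_le D hML hK hF hS)

/-- `N_(i+1) ≤ Q_i` -/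
theorem N_le_Q'' {i : Fin 2} (hF : Fail V v i) : NU V v (i + 1) ≤ QQ v i :=
  f3' D i (D.N_le_oD _) (comm_symm ((N_le_Q' D hML hK hF).trans (D.Q_le_cent_N (i + 1))))

/-- **(a)**: `C_A(N_i) ≤ C(M_(i+1))` for all `A ∈ AA (Q_(i+1))` -/
theorem cent_M {i : Fin 2} (hF : Fail V v i) {A : Subgroup G} (hA : A ∈ AA (QQ v (i + 1))) :
    A ⊓ centralizer (NU V v i : Set G) ≤ centralizer (NoFF.Basic.V (NU V v i) (CC v (i + 1)) : Set G) := by
  have hS : sh V v i A ∈ SS V v i := ⟨A, hA, rfl⟩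
  have h1 := M_le D hML hK hF hS
  have h2 := (eab_iff.1 (SS_mem D hML hK hS).1).1
  exact (le_sup_left.trans h2).trans (centralizer_le h1)

/-- **(b)**: some `A ∈ AA (Q_i)` moves `N_(i+1)` -/
theorem exists_moves {i : Fin 2} (hF : Fail V v i) : ∃ A ∈ AA (QQ v i), ¬ A ≤ centralizer (NU V v (i + 1) : Set G) := by
  by_contra hcon
  push Not at hcon
  have hsub : ∀ A, A ∈ AA (QQ v i) ↔ A ∈ SS V v i := by
    intro A
    constructor
    · intro hA
      have hAO := AA_sub D hML hK hA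
      have hA' : A ∈ AA (QQ v (i + 1)) := AA_of D hAO (f3' D (i + 1) hAO.2.1 (hcon A hA))
      refine ⟨A, hA', ?_⟩
      have h1 : A ≤ centralizer (NU V v i : Set G) := hA.2.1.trans (D.Q_le_cent_N i)
      have h2 : NU V v i ≤ A := by
        refine le_trans (le_inf le_rfl (comm_symm h1)) (sharp D hML hK i hAO).2.1
      unfold sh
      rw [inf_eq_left.2 h1, sup_eq_left.2 h2]
    · exact SS_mem D hML hK
  set J : Subgroup G := sSup (AA (QQ v i)) with hJ
  have h1 : CC v (i + 1) ≤ normalizer (J : Set G) := by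
    intro g hg
    apply mem_normalizer_of_cj_le
    rw [ChoiceBase.cj_le_iff]
    refine sSup_le fun S hS => ?_
    rw [← ChoiceBase.cj_le_iff]
    exact le_sSup ((hsub _).2 (SS_inv D hML hK hF hg ((hsub _).1 hS)))
  have h2 : CC v i ≤ normalizer (J : Set G) := by
    intro g hg
    apply mem_normalizer_of_cj_le
    rw [ChoiceBase.cj_le_iff]
    refine sSup_le fun S hS => ?_
    rw [← ChoiceBase.cj_le_iff]
    have h3 := cj_mem_AA g hS
    have h4 : cj g (QQ v i) = QQ v i := D.conj_QQ hg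
    rw [h4] at h3
    exact le_sSup h3
  have h3 : IsPGroup 2 J := (o2_isPGroup _).to_le (sSup_le fun S hS => hS.2.1 : J ≤ QQ v i)
  have h4 : J = ⊥ := by
    rcases Fin.exists_fin_two.1 ⟨i, rfl⟩ with h | h
    · rw [h] at h1 h2
      exact D.nonloc J h3 h2 h1
    · rw [h] at h1 h2
      exact D.nonloc J h3 h1 h2
  obtain ⟨S, hS⟩ := SS_nonempty D i
  have h5 : v (i + 1) ∈ J := le_sSup ((hsub S).2 hS) (N_le_SS hS (D.mem_N i))
  rw [h4, mem_bot] at h5
  exact D.ne _ h5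

/-! ### `K_1 = C_(C_(i+1))(M_(i+1) N_(i+1) / N_(i+1))` -/

omit [Finite G] D hML hK in
/-- `M_(i+1) N_(i+1)`, `M_(i+1) = ⟨N_i ^ C_(i+1)⟩` -/
def MN (V : Fin 2 → Subgroup G) (v : Fin 2 → G) (i : Fin 2) : Subgroup G :=
  NoFF.Basic.V (NU V v i) (CC v (i + 1)) ⊔ NU V v (i + 1)

omit hML hK in
theorem C_le_N_MN (i : Fin 2) : CC v (i + 1) ≤ normalizer (MN V v i : Set G) := by
  apply le_norm_of
  intro c hc x hx
  have h1 := le_normalizer_V (NU V v i) (CC v (i + 1)) hc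
  have h2 := D.C_le_N_N (i + 1) hc
  have h3 : cj c (MN V v i) = MN V v i := by
    unfold MN
    rw [cj, Subgroup.map_sup]
    change cj c _ ⊔ cj c _ = _
    rw [cj_eq_of_mem_normalizer h1, cj_eq_of_mem_normalizer h2]
  rw [← h3]
  exact ⟨x, hx, rfl⟩

/-- `K_1 = {k ∈ C_(i+1) : [MN, k] ≤ N_(i+1)}` -/
def K1 (D : Fr T V P v) (i : Fin 2) : Subgroup G where
  carrier := {k | k ∈ CC v (i + 1) ∧ ∀ m ∈ MN V v i, k * m * k⁻¹ * m⁻¹ ∈ NU V v (i + 1)}
  one_mem' := ⟨one_mem _, fun m _ => by simp⟩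
  mul_mem' := by
    rintro a b ⟨ha, ha'⟩ ⟨hb, hb'⟩
    refine ⟨mul_mem ha hb, fun m hm => ?_⟩
    have h1 : b * m * b⁻¹ ∈ MN V v i := (mem_normalizer_iff.1 (C_le_N_MN D i hb) m).1 hm
    have e : a * b * m * (a * b)⁻¹ * m⁻¹ = (a * (b * m * b⁻¹) * a⁻¹ * (b * m * b⁻¹)⁻¹) * (b * m * b⁻¹ * m⁻¹) := by
      group
    rw [e]
    exact mul_mem (ha' _ h1) (hb' m hm)
  inv_mem' := by
    rintro a ⟨ha, ha'⟩
    refine ⟨inv_mem ha, fun m hm => ?_⟩
    have h1 : a⁻¹ * m * a ∈ MN V v i := by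
      have := (mem_normalizer_iff.1 (C_le_N_MN D i (inv_mem ha)) m).1 hm
      rwa [inv_inv] at this
    have h2 := inv_mem (ha' _ h1)
    have e : a⁻¹ * m * a⁻¹⁻¹ * m⁻¹ = (a * (a⁻¹ * m * a) * a⁻¹ * (a⁻¹ * m * a)⁻¹)⁻¹ := by group
    rw [e]
    exact h2

omit hML hK in
theorem K1_le (i : Fin 2) : K1 D i ≤ CC v (i + 1) := fun _ h => h.1

omit hML hK in
theorem K1_comm {i : Fin 2} {k m : G} (hk : k ∈ K1 D i) (hm : m ∈ MN V v i) : k * m * k⁻¹ * m⁻¹ ∈ NU V v (i + 1) :=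
  hk.2 m hm

omit hML hK in
theorem C_le_N_K1 (i : Fin 2) : CC v (i + 1) ≤ normalizer (K1 D i : Set G) := by
  apply le_norm_of
  rintro c hc k ⟨hk, hk'⟩
  refine ⟨mul_mem (mul_mem hc hk) (inv_mem hc), fun m hm => ?_⟩
  have h1 : c⁻¹ * m * c ∈ MN V v i := by
    have := (mem_normalizer_iff.1 (C_le_N_MN D i (inv_mem hc)) m).1 hm
    rwa [inv_inv] at this
  have h2 := (mem_normalizer_iff.1 (D.C_le_N_N (i + 1) hc) _).1 (hk' _ h1)
  have e : c * k * c⁻¹ * m * (c * k * c⁻¹)⁻¹ * m⁻¹ = c * (k * (c⁻¹ * m * c) * k⁻¹ * (c⁻¹ * m * c)⁻¹) * c⁻¹ := by group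
  rw [e]
  exact h2

/-- **(c)**: the members of `AA (Q_i)` are in `K_1` -/
theorem le_K1 {i : Fin 2} (hF : Fail V v i) {A : Subgroup G} (hA : A ∈ AA (QQ v i)) : A ≤ K1 D i := by
  have hAO := AA_sub D hML hK hA
  have hAC : A ≤ CC v (i + 1) := hA.2.1.trans ((D.Q_le_T i).trans (D.T_le_C (i + 1)))
  -- `A' = C_A(N_(i+1)) N_(i+1)`
  obtain ⟨-, -, -, h1⟩ := sharp D hML hK (i + 1) hAO
  have h2 := sharp_mem D hML hK (i + 1) hAO
  have h3 : (A ⊓ centralizer (NU V v (i + 1) : Set G)) ⊔ NU V v (i + 1) ≤ centralizer (NU V v i : Set G) :=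
    sup_le ((inf_le_left.trans hA.2.1).trans (D.Q_le_cent_N i)) ((N_le_Q'' D hML hK hF).trans (D.Q_le_cent_N i))
  have h4 := cent_M D hML hK hF h2
  rw [inf_eq_left.2 h3] at h4
  -- `M ≤ A'`
  set M : Subgroup G := NoFF.Basic.V (NU V v i) (CC v (i + 1)) with hM
  obtain ⟨S, hS⟩ := SS_nonempty D i
  have h5 : M ≤ S := M_le D hML hK hF hS
  have hSe := SS_mem' D hML hK hF hS
  have hMe : IsElementaryAbelian 2 M := eab_mono hSe.1 h5
  have h6 : M ≤ (A ⊓ centralizer (NU V v (i + 1) : Set G)) ⊔ NU V v (i + 1) := by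
    set A' : Subgroup G := (A ⊓ centralizer (NU V v (i + 1) : Set G)) ⊔ NU V v (i + 1) with hA'
    have h7 : IsElementaryAbelian 2 (A' ⊔ M : Subgroup G) := eab_sup h2.1 hMe h4
    have h8 : A' = A' ⊔ M :=
      Subgroup.eq_of_le_of_card_ge le_sup_left (h2.2.2 _ h7 (sup_le h2.2.1 (h5.trans hSe.2.1)))
    rw [h8]; exact le_sup_right
  have h7 : MN V v i ≤ (A ⊓ centralizer (NU V v (i + 1) : Set G)) ⊔ NU V v (i + 1) := sup_le h6 le_sup_right
  intro a ha
  refine ⟨hAC ha, fun m hm => ?_⟩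
  exact comm_mem hAC (D.C_le_N_N (i + 1)) (fun x hx y hy => (mem_centralizer_iff.1 ((eab_iff.1 hA.1).1 hx) y hy).symm)
    inf_le_left (h7 hm) ha

/-- `C_(i+1) = K_1 D` -/
theorem K1_mul {i : Fin 2} (hF : Fail V v i) :
    ∀ c ∈ CC v (i + 1), ∃ x ∈ K1 D i, ∃ d ∈ centralizer (zc T : Set G), c = x * d := by
  refine D.lem0 (K1_le D i) (C_le_N_K1 D i) fun h => ?_
  obtain ⟨A, hA, hAm⟩ := exists_moves D hML hK hF
  exact hAm ((le_K1 D hML hK hF hA).trans h)

/-- `M_(i+1) N_(i+1) = N_i N_(i+1)` -/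
theorem MN_eq {i : Fin 2} (hF : Fail V v i) : MN V v i = NU V v i ⊔ NU V v (i + 1) := by
  apply le_antisymm
  · refine sup_le (V_le fun c hc => ?_) le_sup_right
    obtain ⟨k, hk, d, hd, rfl⟩ := K1_mul D hML hK hF c hc
    rw [← conj_conj, conj_eq_of_mem (D.C_le_N_N i (D.cent_zc_le i hd))]
    rintro _ ⟨n, hn, rfl⟩
    have hn' : n ∈ NU V v i := hn
    have h1 := K1_comm D hk (show n ∈ MN V v i from mem_sup_left (le_V _ _ hn'))
    change k * n * k⁻¹ ∈ _
    have e : k * n * k⁻¹ = (k * n * k⁻¹ * n⁻¹) * n := by group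
    rw [e]
    exact mul_mem (mem_sup_right h1) (mem_sup_left hn')
  · exact sup_le ((le_V _ _).trans le_sup_left) le_sup_right

/-- **`N_i N_(i+1)` is normal in `C_(i+1)`** -/
theorem fail_norm {i : Fin 2} (hF : Fail V v i) :
    CC v (i + 1) ≤ normalizer ((NU V v i ⊔ NU V v (i + 1) : Subgroup G) : Set G) := by
  rw [← MN_eq D hML hK hF]
  exact C_le_N_MN D i

/-- **THEOREM EX**: not both sides fail. -/
theorem not_fail : ¬ ∀ i, Fail V v i := by
  intro hF
  have h0 := fail_norm D hML hK (hF 0)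
  have h1 := fail_norm D hML hK (hF 1)
  rw [show (0 : Fin 2) + 1 = 1 from rfl] at h0
  rw [show (1 : Fin 2) + 1 = 0 from rfl, sup_comm] at h1
  have h2 := D.nonloc _ (D.T_isPGroup.to_le (sup_le (D.N_le_T 0) (D.N_le_T 1))) h1 h0
  have h3 : v (0 + 1) ∈ NU V v 0 ⊔ NU V v 1 := mem_sup_left (D.mem_N 0)
  rw [h2, mem_bot] at h3
  exact D.ne _ h3

/-- the exact group if side `i` does not fail -/
theorem of_not_fail {i : Fin 2} (hF : ¬ Fail V v i) : ∃ B : Subgroup G, IsElementaryAbelian 2 B ∧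
    B ≤ QQ v (i + 1) ∧ B ≤ o2 (centralizer (V i : Set G)) ∧ Ex B (NU V v i) ∧ ¬ B ≤ centralizer (NU V v i : Set G) := by
  unfold Fail at hF
  push Not at hF
  obtain ⟨A, hA, hAm⟩ := hF
  have hAO := AA_sub D hML hK hA
  refine ⟨A ⊓ centralizer (ZV V v i : Set G), eab_mono hA.1 inf_le_left, inf_le_left.trans hA.2.1, ?_,
    dich D hML hK i hAO, hAm⟩
  exact le_o2_cent D i (inf_le_left.trans hAO.2.1) (cent_V D (inf_le_left.trans hA.2.1)) inf_le_right

omit hML hK in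
/-- `O₂(C_G(V i)) ≤ O₂(N_(C_i)(V i))` -/
theorem o2_cent_le (i : Fin 2) :
    o2 (centralizer (V i : Set G)) ≤ o2 (normalizer (V i : Set G) ⊓ CC v i) := by
  have h1 : centralizer (V i : Set G) ≤ normalizer (V i : Set G) ⊓ CC v i :=
    le_inf (centralizer_le_normalizer _) (cent_V_le D i)
  refine ZN.le_o2 ((ZN.o2_le _).trans h1) (o2_isPGroup _) ?_
  exact (inf_le_left.trans (norm_cent le_rfl)).trans (Cfsg.Agent.Omega.normalizer_le_normalizer_o2' _)

end Cfsg.Agent.Omega.TC.ExBoth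

namespace Cfsg.Agent.Omega.TC.Fr

open Subgroup Cfsg Cfsg.Agent.ZN
open Cfsg.Agent.Omega.OM.KTwo (CC QQ NU)
open Cfsg.Agent.Omega.OM.PG.Int (Ex)

universe u

variable {G : Type u} [Group G] [Finite G] {T : Subgroup G} {V P : Fin 2 → Subgroup G} {v : Fin 2 → G}

/-- **THEOREM EX / EX-R** (#21690, #21924): any frame, any `d`: on some side `i` there is an exact elementary abelian
group in `O₂(D) ∩ O₂(C_G(V i))` which moves `N_i`. -/
theorem exBoth (D : Fr T V P v) (hML : ML.Final.MLK.{u, u}) (hK : ∀ i, IsKGroup (CC v i)) :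
    ∃ (i : Fin 2) (B : Subgroup G), IsElementaryAbelian 2 B ∧ B ≤ QQ v (i + 1) ∧
      B ≤ o2 (centralizer (V i : Set G)) ∧ Ex B (NU V v i) ∧ ¬ B ≤ centralizer (NU V v i : Set G) := by
  have h := ExBoth.not_fail D hML hK
  push Not at h
  obtain ⟨i, hi⟩ := h
  exact ⟨i, ExBoth.of_not_fail D hML hK hi⟩

/-- the literal of `KL/Plug.lean`: [A] `V i ≤ N_i` for both `i`, any `d` -/
theorem exBoth_plug (D : Fr T V P v) (hML : ML.Final.MLK.{u, u}) (hK : ∀ i, IsKGroup (CC v i)) :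
    ∃ (i : Fin 2) (A : Subgroup G), IsElementaryAbelian 2 A ∧ A ≤ o2 (centralizer (zc T : Set G)) ∧
      A ≤ o2 (normalizer (V i : Set G) ⊓ CC v i) ∧ Ex A (NU V v i) ∧ ¬ A ≤ centralizer (NU V v i : Set G) := by
  obtain ⟨i, A, h1, h2, h3, h4, h5⟩ := D.exBoth hML hK
  exact ⟨i, A, h1, h2.trans (D.Q_le_o2D _), h3.trans (ExBoth.o2_cent_le D i), h4, h5⟩

end Cfsg.Agent.Omega.TC.Fr

end

section


/-!
# CARD #18791: the vector `n ∈ N_k` with stabiliser `N(V k)` (helper836 #22393 (3); (0.1) of helper691 #21425)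

`D : Fr T V P v`; `JJ V v k := C_k ∩ N(V_k N_k)`.

* `avg` : averaging over an odd orbit;
* `exists_vec` : some `n ∈ N_k` has `[n, g] ∈ ⟨v k⟩ ↔ g ∈ N(V k)` for all `g ∈ JJ V v k` (any frame, any `k`);
* `JJ_eq` : `JJ = C_k` if `V k ≤ N_k`; `K1_le_JJ` : `K_1 ≤ JJ V v (i+1)`; `gen_JJ` : `N_(i+1) = ⟨v i ^ JJ⟩` if side `i` fails;
* `vec_not` : `n ∉ ⟨v k⟩` if `JJ` does not normalise `V k`.
-/

set_option autoImplicit false
set_option linter.unusedSectionVars false

namespace Cfsg.Agent.Omega.TC.Twist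

open Subgroup Cfsg Cfsg.Agent.ZN Cfsg.Agent.Omega.MinPar Cfsg.Agent.Omega.TC.LemZ Cfsg.Agent.Omega.TC.ExBoth
open Cfsg.Agent.Omega.OM.KTwo (CC QQ WU NU EU ne_add_one eq_add_one add_one_add_one le_normalizer_V le_V)
open Cfsg.Agent.Omega.NoFF.Basic (conj_conj mem_conj conj_le_iff comm_symm comm_mono Z_le_V V_le)
open Cfsg.Agent.Omega.NOThreeL.Pair (conj_eq_of_mem conj_le_normalizer)
open Cfsg.Agent.ZN.ChoiceBase (cj mem_normalizer_of_cj_le cj_eq_of_mem_normalizer)
open Cfsg.Agent.ZN.ChoiceSit (syl_not_dvd)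
open scoped Pointwise

universe u

variable {G : Type u} [Group G]

/-- **averaging**: `w ∈ U` is fixed by `T` modulo `Z` and by `J` modulo `E`: some `m ∈ U` with `w m ∈ E` is fixed by `J`
modulo `Z`. -/
theorem avg [Finite G] {J T U E Z : Subgroup G} (hodd : ¬ 2 ∣ T.relIndex J)
    (hJU : J ≤ normalizer (U : Set G)) (hJZ : J ≤ normalizer (Z : Set G)) (hUZ : U ≤ normalizer (Z : Set G))
    (hU2 : ∀ x ∈ U, x * x = 1) (hZE : Z ≤ E) {w : G} (hw : w ∈ U)
    (hT : ∀ t ∈ T, t * w * t⁻¹ * w⁻¹ ∈ Z) (hJ : ∀ g ∈ J, g * w * g⁻¹ * w⁻¹ ∈ E) :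
    ∃ m ∈ U, w * m ∈ E ∧ ∀ g ∈ J, g * m * g⁻¹ * m⁻¹ ∈ Z := by
  have hnor : (Z.subgroupOf U).Normal := normal_subgroupOf_of_le_normalizer hUZ
  let _ := ML.Final.conjAct hJU hJZ
  let mk : U →* U ⧸ Z.subgroupOf U := QuotientGroup.mk' (Z.subgroupOf U)
  have hmk : Function.Surjective mk := QuotientGroup.mk'_surjective _
  have hmem : ∀ (g : J) (n : U), (g : G) * n * (g : G)⁻¹ ∈ U := fun g n =>
    (mem_normalizer_iff.1 (hJU g.2) n).1 n.2
  have hsm : ∀ (g : J) (n : U), g • mk n = mk ⟨(g : G) * n * (g : G)⁻¹, hmem g n⟩ := fun _ _ => rfl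
  have hone : ∀ a b : U, mk a = mk b ↔ (a : G) * (b : G)⁻¹ ∈ Z := by
    intro a b
    rw [← mul_inv_eq_one, ← map_inv, ← map_mul, ← MonoidHom.mem_ker, QuotientGroup.ker_mk']
    exact Iff.rfl
  have hfix : ∀ (g : J) (n : U), g • mk n = mk n ↔ (g : G) * n * (g : G)⁻¹ * (n : G)⁻¹ ∈ Z := by
    intro g n
    rw [hsm, hone]
  obtain ⟨z, hz, hzE⟩ := KL.GenTool.exists_fixed_mod (H := J) (M := U ⧸ Z.subgroupOf U) (T := T.subgroupOf J)
    (y := mk ⟨w, hw⟩) (U := (E.subgroupOf U).map mk) (by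
      intro m
      obtain ⟨n, rfl⟩ := hmk m
      rw [← map_mul, ← map_one mk, hone]
      have h1 := hU2 n n.2
      simp [h1]) hodd (by
      intro t ht
      exact (hfix t _).2 (hT _ (mem_subgroupOf.1 ht))) (by
      intro g
      rw [hsm, ← map_mul]
      refine ⟨_, ?_, rfl⟩
      have h1 := hJ g g.2
      have h2 : w⁻¹ = w := inv_eq_of_mul_eq_one_left (hU2 w hw)
      rw [h2] at h1
      exact mem_subgroupOf.2 h1)
  obtain ⟨m, rfl⟩ := hmk z
  refine ⟨m, m.2, ?_, fun g hg => (hfix ⟨g, hg⟩ m).1 (hz ⟨g, hg⟩)⟩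
  obtain ⟨e, he, heq⟩ := hzE
  rw [← map_mul] at heq
  have h1 := (hone _ _).1 heq.symm
  have h2 : (w * (m : G)) = (w * m * (e : G)⁻¹) * e := by group
  rw [h2]
  exact mul_mem (hZE h1) (mem_subgroupOf.1 he)

/-- `J' = C_k ∩ N(V_k N_k)` -/
def JJ (V : Fin 2 → Subgroup G) (v : Fin 2 → G) (k : Fin 2) : Subgroup G :=
  CC v k ⊓ normalizer ((V k ⊔ NU V v k : Subgroup G) : Set G)

variable [Finite G] {T : Subgroup G} {V P : Fin 2 → Subgroup G} {v : Fin 2 → G} (D : Fr T V P v)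

theorem JJ_le (k : Fin 2) : JJ V v k ≤ CC v k := inf_le_left

include D

theorem norm_le_JJ (k : Fin 2) : CC v k ⊓ normalizer (V k : Set G) ≤ JJ V v k := by
  refine le_inf inf_le_left ?_
  apply le_norm_of
  rintro g ⟨hg, hgV⟩ x hx
  have h3 : cj g (V k ⊔ NU V v k) = V k ⊔ NU V v k := by
    rw [cj, Subgroup.map_sup]
    change cj g _ ⊔ cj g _ = _
    rw [cj_eq_of_mem_normalizer hgV, cj_eq_of_mem_normalizer (D.C_le_N_N k hg)]
  rw [← h3]
  exact ⟨x, hx, rfl⟩

theorem T_le_JJ (k : Fin 2) : T ≤ JJ V v k := (le_inf (D.T_le_C k) (D.T_le_N k)).trans (norm_le_JJ D k)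

theorem P_le_JJ (k : Fin 2) : P (k + 1) ≤ JJ V v k :=
  (le_inf (D.PC (k + 1) k (ne_add_one k).symm) (D.PN (k + 1) k)).trans (norm_le_JJ D k)

/-- `J' = C_k` if `V k ≤ N_k` -/
theorem JJ_eq {k : Fin 2} (hV : V k ≤ NU V v k) : JJ V v k = CC v k := by
  unfold JJ
  rw [sup_eq_right.2 hV]
  exact inf_eq_left.2 (D.C_le_N_N k)

theorem VN_le (k : Fin 2) : V k ⊔ NU V v k ≤ WU V v k ⊔ NU V v k := sup_le_sup_right (D.V_le_W k) _

theorem VN_sq (k : Fin 2) : ∀ x ∈ V k ⊔ NU V v k, x * x = 1 := fun x hx => by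
  rw [← pow_two]; exact D.WN_sq k x (VN_le D k hx)

theorem VN_comm (k : Fin 2) : ∀ x ∈ V k ⊔ NU V v k, ∀ y ∈ V k ⊔ NU V v k, x * y = y * x := fun x hx y hy =>
  (mem_centralizer_iff.1 (D.WN_comm k (VN_le D k hx)) y (VN_le D k hy)).symm

/-- `g ∈ C_k` normalises `V k` iff it fixes `w ∈ V k ∖ ⟨v k⟩` modulo `v k` -/
theorem mem_norm_iff {k : Fin 2} {w : G} (hw : w ∈ V k) (hw1 : w ≠ 1) (hwv : w ≠ v k) {g : G} (hg : g ∈ CC v k) :
    g * w * g⁻¹ * w⁻¹ ∈ zpowers (v k) ↔ g ∈ normalizer (V k : Set G) := by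
  have hgv : g * v k * g⁻¹ = v k := by
    rw [mem_centralizer_singleton_iff.1 hg, mul_inv_cancel_right]
  constructor
  · intro h
    have h1 : g * w * g⁻¹ ∈ V k := by
      have h2 : g * w * g⁻¹ * w⁻¹ ∈ V k := by
        obtain ⟨n, hn⟩ := mem_zpowers_iff.1 h
        rw [← hn]
        exact zpow_mem (D.mem k) n
      have e : g * w * g⁻¹ = (g * w * g⁻¹ * w⁻¹) * w := by group
      rw [e]
      exact mul_mem h2 hw
    apply mem_normalizer_of_cj_le
    rintro _ ⟨x, hx, rfl⟩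
    change g * x * g⁻¹ ∈ V k
    by_cases hx1 : x = 1
    · rw [hx1, mul_one, mul_inv_cancel]; exact one_mem _
    rcases D.eq_of_V (D.mem k) (D.ne k) hw hw1 (Ne.symm hwv) hx hx1 with h3 | h3 | h3
    · rw [h3, hgv]; exact D.mem k
    · rw [h3]; exact h1
    · have e : g * x * g⁻¹ = (g * v k * g⁻¹) * (g * w * g⁻¹) := by rw [h3]; group
      rw [e, hgv]
      exact mul_mem (D.mem k) h1
  · intro h
    have h1 : g * w * g⁻¹ ∈ V k := (mem_normalizer_iff.1 h w).1 hw
    have h2 : g * w * g⁻¹ ≠ 1 := fun h => hw1 (conj_eq_one_iff.1 h)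
    rcases D.eq_of_V (D.mem k) (D.ne k) hw hw1 (Ne.symm hwv) h1 h2 with h3 | h3 | h3
    · exfalso
      apply hwv
      rw [← hgv] at h3
      exact mul_left_cancel (mul_right_cancel h3)
    · rw [h3, mul_inv_cancel]; exact one_mem _
    · rw [h3, mul_inv_cancel_right]; exact mem_zpowers _

/-- **the vector** `n` -/
theorem exists_vec (k : Fin 2) : ∃ n ∈ NU V v k, ∀ g ∈ JJ V v k,
    g * n * g⁻¹ * n⁻¹ ∈ zpowers (v k) ↔ g ∈ normalizer (V k : Set G) := by
  obtain ⟨w, hw, hw1, hwv⟩ := D.exists_ne_v k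
  by_cases hV : V k ≤ NU V v k
  · exact ⟨w, hV hw, fun g hg => mem_norm_iff D hw hw1 hwv hg.1⟩
  set N : Subgroup G := NU V v k with hN
  set U : Subgroup G := V k ⊔ N with hU
  set Z : Subgroup G := zpowers (v k) with hZ
  set E : Subgroup G := N ⊔ Z with hE
  have hZV : Z ≤ V k := by rw [hZ, zpowers_le]; exact D.mem k
  have hU2 := VN_sq D k
  have hUc := VN_comm D k
  -- `w ∉ E`
  have hwE : w ∉ E := by
    intro h
    obtain ⟨n, hn, z, hz, e⟩ := OM.KTwo.exists_mul_of_mem_sup (hZV.trans ((D.V_le_T k).trans ((D.T_le_C k).trans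
      (D.C_le_N_N k)))) h
    have hn' : n = w * z⁻¹ := by rw [e]; group
    have hnV : n ∈ V k := by rw [hn']; exact mul_mem hw (inv_mem (hZV hz))
    have hnz : n = 1 ∨ n = v k := by
      by_contra hcon
      push Not at hcon
      obtain ⟨t, ht, htn⟩ := D.exists_swap hnV hcon.1 hcon.2
      apply hV
      have h1 : n * v k ∈ N := by
        rw [← htn]
        exact (mem_normalizer_iff.1 (D.C_le_N_N k (D.T_le_C k ht)) n).1 hn
      have h2 : v k ∈ N := by
        have e : v k = n⁻¹ * (n * v k) := by group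
        rw [e]
        exact mul_mem (inv_mem hn) h1
      rcases D.le_or h2 with h3 | h3
      · exact h3
      · exfalso
        rcases h3 n ⟨hnV, hn⟩ with h4 | h4
        · exact hcon.1 h4
        · exact hcon.2 h4
    have hwZ : w ∈ Z := by
      rw [e]
      rcases hnz with h1 | h1
      · rw [h1, one_mul]; exact hz
      · rw [h1]; exact mul_mem (mem_zpowers _) hz
    have hZm : w = 1 ∨ w = v k := by
      obtain ⟨r, hr⟩ := mem_zpowers_iff.1 hwZ
      rcases Int.even_or_odd' r with ⟨s, rfl | rfl⟩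
      · left; rw [← hr, zpow_mul, zpow_two, D.v_sq, one_zpow]
      · right; rw [← hr, zpow_add, zpow_mul, zpow_two, D.v_sq, one_zpow, one_mul, zpow_one]
    rcases hZm with h1 | h1
    · exact hw1 h1
    · exact hwv h1
  -- `U = E ∪ w E`
  have hcos : ∀ x ∈ U, x ∈ E ∨ x * w⁻¹ ∈ E := by
    intro x hx
    obtain ⟨n, hn, a, ha, rfl⟩ := OM.KTwo.exists_mul_of_mem_sup ((D.V_le_T k).trans ((D.T_le_C k).trans
      (D.C_le_N_N k))) (by rw [sup_comm]; exact hx)
    by_cases ha1 : a = 1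
    · left; rw [ha1, mul_one]; exact mem_sup_left hn
    rcases D.eq_of_V (D.mem k) (D.ne k) hw hw1 (Ne.symm hwv) ha ha1 with h3 | h3 | h3
    · left; rw [h3]; exact mul_mem (mem_sup_left hn) (mem_sup_right (mem_zpowers _))
    · right; rw [h3, mul_inv_cancel_right]; exact mem_sup_left hn
    · right
      have e : n * a * w⁻¹ = n * v k := by rw [h3]; group
      rw [e]
      exact mul_mem (mem_sup_left hn) (mem_sup_right (mem_zpowers _))
  have hCZ : CC v k ≤ normalizer (Z : Set G) := (Fr.CC_le_cent_zpowers k).trans (centralizer_le_normalizer _)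
  have hJE : JJ V v k ≤ normalizer (E : Set G) := by
    refine (JJ_le k).trans ?_
    apply le_norm_of
    intro g hg x hx
    have h3 : cj g E = E := by
      rw [hE, cj, Subgroup.map_sup]
      change cj g _ ⊔ cj g _ = _
      rw [cj_eq_of_mem_normalizer (D.C_le_N_N k hg), cj_eq_of_mem_normalizer (hCZ hg)]
    rw [← h3]
    exact ⟨x, hx, rfl⟩
  have hwU : w ∈ U := mem_sup_left hw
  have hJw : ∀ g ∈ JJ V v k, g * w * g⁻¹ * w⁻¹ ∈ E := by
    intro g hg
    have h1 : g * w * g⁻¹ ∈ U := (mem_normalizer_iff.1 hg.2 w).1 hwU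
    rcases hcos _ h1 with h2 | h2
    · exact absurd ((mem_normalizer_iff.1 (hJE hg) w).2 h2) hwE
    · exact h2
  have hodd : ¬ 2 ∣ T.relIndex (JJ V v k) := by
    intro h2
    apply syl_not_dvd (D.syl k)
    rw [← relIndex_mul_relIndex T (JJ V v k) (CC v k) (T_le_JJ D k) (JJ_le k)]
    exact Dvd.dvd.mul_right h2 _
  have hTw : ∀ t ∈ T, t * w * t⁻¹ * w⁻¹ ∈ Z := fun t ht =>
    (mem_norm_iff D hw hw1 hwv (D.T_le_C k ht)).2 (D.T_le_N k ht)
  have hUT : U ≤ T := sup_le (D.V_le_T k) (D.N_le_T k)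
  obtain ⟨m, hm, hwm, hJm⟩ := avg hodd (inf_le_right : JJ V v k ≤ normalizer (U : Set G))
    ((JJ_le k).trans hCZ) ((hUT.trans (D.T_le_C k)).trans hCZ) hU2 (le_sup_right : Z ≤ E) hwU hTw hJw
  obtain ⟨n, hn, z, hz, e⟩ := OM.KTwo.exists_mul_of_mem_sup (hZV.trans ((D.V_le_T k).trans ((D.T_le_C k).trans
      (D.C_le_N_N k)))) hwm
  refine ⟨n, hn, fun g hg => ?_⟩
  rw [← mem_norm_iff D hw hw1 hwv hg.1]
  have hnU : n ∈ U := mem_sup_right hn
  have hzU : z ∈ U := hZV.trans le_sup_left hz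
  have hgU : ∀ x ∈ U, g * x * g⁻¹ ∈ U := fun x hx => (mem_normalizer_iff.1 hg.2 x).1 hx
  have hgz : g * z * g⁻¹ = z := by
    obtain ⟨r, rfl⟩ := mem_zpowers_iff.1 hz
    have h1 : Commute g (v k) := mem_centralizer_singleton_iff.1 hg.1
    rw [(h1.zpow_right r).eq, mul_inv_cancel_right]
  have hn' : n = w * m * z⁻¹ := by rw [e]; group
  -- `[n, g] = [w, g] [m, g]`
  have key : g * n * g⁻¹ * n⁻¹ = (g * w * g⁻¹ * w⁻¹) * (g * m * g⁻¹ * m⁻¹) := by
    have e1 : g * n * g⁻¹ = (g * w * g⁻¹) * (g * m * g⁻¹) * z⁻¹ := by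
      have e2 : g * z⁻¹ * g⁻¹ = z⁻¹ := by
        have := congrArg (·⁻¹) hgz
        simpa [mul_assoc] using this
      calc g * n * g⁻¹ = (g * w * g⁻¹) * (g * m * g⁻¹) * (g * z⁻¹ * g⁻¹) := by rw [hn']; group
        _ = _ := by rw [e2]
    have c1 : (g * m * g⁻¹) * w⁻¹ = w⁻¹ * (g * m * g⁻¹) := hUc _ (hgU m hm) _ (inv_mem hwU)
    have c2 : m⁻¹ * w⁻¹ = w⁻¹ * m⁻¹ := hUc _ (inv_mem hm) _ (inv_mem hwU)
    rw [e1, hn']
    calc (g * w * g⁻¹) * (g * m * g⁻¹) * z⁻¹ * (w * m * z⁻¹)⁻¹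
        = (g * w * g⁻¹) * (g * m * g⁻¹) * (m⁻¹ * w⁻¹) := by group
      _ = (g * w * g⁻¹) * ((g * m * g⁻¹) * w⁻¹) * m⁻¹ := by rw [c2]; group
      _ = (g * w * g⁻¹ * w⁻¹) * (g * m * g⁻¹ * m⁻¹) := by rw [c1]; group
  rw [key]
  constructor
  · intro h
    have h1 := mul_mem h (inv_mem (hJm g hg))
    rwa [mul_inv_cancel_right] at h1
  · exact fun h => mul_mem h (hJm g hg)

theorem vec_not {k : Fin 2} {n : G} (hst : ∀ g ∈ JJ V v k, g * n * g⁻¹ * n⁻¹ ∈ zpowers (v k) ↔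
    g ∈ normalizer (V k : Set G)) (hJ : ¬ JJ V v k ≤ normalizer (V k : Set G)) : n ∉ zpowers (v k) := by
  intro h
  apply hJ
  intro g hg
  rw [← hst g hg]
  have h1 : Commute g (v k) := mem_centralizer_singleton_iff.1 hg.1
  obtain ⟨r, rfl⟩ := mem_zpowers_iff.1 h
  rw [(h1.zpow_right r).eq, mul_inv_cancel_right, mul_inv_cancel]
  exact one_mem _

/-- `K_1 ≤ J'` -/
theorem K1_le_JJ (i : Fin 2) : K1 D i ≤ JJ V v (i + 1) := by
  refine le_inf (K1_le D i) ?_
  apply le_norm_of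
  intro g hg x hx
  have h1 : V (i + 1) ⊔ NU V v (i + 1) ≤ MN V v i :=
    sup_le (((D.V_le_N i).trans (le_V _ _)).trans le_sup_left) le_sup_right
  have h2 := K1_comm D hg (h1 hx)
  have e : g * x * g⁻¹ = (g * x * g⁻¹ * x⁻¹) * x := by group
  rw [e]
  exact mul_mem (mem_sup_right h2) hx

variable (hML : ML.Final.MLK.{u, u}) (hK : ∀ i, IsKGroup (CC v i))

include hML hK

/-- `N_(i+1) = ⟨v i ^ J'⟩` if side `i` fails -/
theorem gen_JJ {i : Fin 2} (hF : Fail V v i) {U : Subgroup G} (hv : v (i + 1 + 1) ∈ U)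
    (hn : JJ V v (i + 1) ≤ normalizer (U : Set G)) : NU V v (i + 1) ≤ U := by
  rw [← D.NH_CC]
  refine V_le fun c hc => ?_
  obtain ⟨k, hk, d, hd, rfl⟩ := K1_mul D hML hK hF c hc
  have h1 : MulAut.conj d • zpowers (v (i + 1 + 1)) = zpowers (v (i + 1 + 1)) := by
    apply conj_eq_of_mem
    apply centralizer_le_normalizer
    rw [mem_centralizer_iff]
    rintro _ ⟨n, rfl⟩
    have h1 : Commute d (v (i + 1 + 1)) := mem_centralizer_singleton_iff.1 (D.cent_zc_le _ hd)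
    exact (h1.zpow_right n).eq.symm
  rw [← conj_conj, h1]
  have h2 : MulAut.conj k • U = U := conj_eq_of_mem (hn (K1_le_JJ D i hk))
  rw [← h2, conj_le_iff, zpowers_le]
  exact hv

/-- `J'` does not normalise `V (i+1)` if side `i` fails -/
theorem JJ_not {i : Fin 2} (hF : Fail V v i) : ¬ JJ V v (i + 1) ≤ normalizer (V (i + 1) : Set G) := by
  intro h
  refine D.comp (i + 1) fun c hc => ?_
  obtain ⟨k, hk, d, hd, e⟩ := K1_mul D hML hK hF c⁻¹ (inv_mem hc)
  refine ⟨d⁻¹, inv_mem hd, k⁻¹, inv_mem (h (K1_le_JJ D i hk)), ?_⟩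
  rw [← mul_inv_rev, ← e, inv_inv]

end Cfsg.Agent.Omega.TC.Twist

end

section


/-!
# CARD #18791 over `TC.Fr`: THEOREM KL + THEOREM EX + the vector `n` (helper836 #22393): `V k ≰ N_k` for both `k`

Inputs: `D : Fr T V P v`; `MLK`; THEOREM KL (`Quo.NoInp`); `hK` : `C_0`, `C_1` are `K`-groups; `hU` : every `T`-minimal
`R ≤ C_i` which moves `v (i+1)` normalises `V i`.  No swap, no `J(T)`, any distance.

* `false_of_fail` : no side fails (`ExBoth.Fail`);
* **`not_le`** : `V k ≰ N_k` for both `k` ([A] and [B] are dead);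
* `exists_ex` : for both `k` an exact elementary abelian `B ≤ Q_(k+1) ∩ O₂(C_G(V k))` moves `N_k`;
* `no_X` : a normal `X` of `C_k` with `[V k, X] ≤ V k N_k` centralises `N_k`;
* **`thmG` : `ThmG V v`** (THEOREM G) for every frame; `no_1b` : (1b) of helper691 #21425.
-/

set_option autoImplicit false
set_option linter.unusedSectionVars false

namespace Cfsg.Agent.Omega.KL.EndR

open Subgroup Cfsg Cfsg.Agent.ZN Cfsg.Agent.Omega.MinPar Cfsg.Agent.Omega.TC Cfsg.Agent.Omega.TC.ExBoth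
  Cfsg.Agent.Omega.TC.Twist
open Cfsg.Agent.Omega.OM.KTwo (CC QQ WU NU EU ne_add_one add_one_add_one)
open Cfsg.Agent.MinSimple.MinParabolic (IsMinPar)
open Cfsg.Agent.Omega.NO3S.EThree.ExactA (eab_iff)
open Cfsg.Agent.Omega.NoFF.Basic (comm_symm)
open Cfsg.Agent.ZN.ChoiceBase (AA)
open Cfsg.Agent.Omega.TC.LemZ (le_norm_of)
open scoped Pointwise

universe u

variable {G : Type u} [Group G] [Finite G] {T : Subgroup G} {V P : Fin 2 → Subgroup G} {v : Fin 2 → G}

/-- the hypothesis on minimal parabolics -/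
def HU (T : Subgroup G) (V : Fin 2 → Subgroup G) (v : Fin 2 → G) : Prop :=
  ∀ i, ∀ R : Subgroup G, IsMinPar T R → R ≤ CC v i → ¬ R ≤ CC v (i + 1) → R ≤ normalizer (V i : Set G)

variable (D : Fr T V P v) (hML : ML.Final.MLK.{u, u}) (hKL : Quo.NoInp.{u, u}) (hK : ∀ i, IsKGroup (CC v i))

include D hML hKL hK

/-- THEOREM KL for `J'_k = C_k ∩ N(V_k N_k)` -/
theorem false_of_gen (hU : HU T V v) {k : Fin 2}
    (hgen : ∀ U : Subgroup G, v (k + 1) ∈ U → JJ V v k ≤ normalizer (U : Set G) → NU V v k ≤ U)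
    (hJ : ¬ JJ V v k ≤ normalizer (V k : Set G)) (hF : ¬ Fail V v k) : False := by
  obtain ⟨B, hB, hBQ, hBV, hBe, hBm⟩ := of_not_fail D hML hK hF
  obtain ⟨n, hn, hst⟩ := exists_vec D k
  have h1 : normalizer (V k : Set G) ⊓ CC v k = normalizer (V k : Set G) ⊓ JJ V v k := by
    apply le_antisymm
    · exact le_inf inf_le_left (by rw [inf_comm]; exact norm_le_JJ D k)
    · exact inf_le_inf_left _ (JJ_le k)
  have h2 : B ≤ o2 (normalizer (V k : Set G) ⊓ JJ V v k) := by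
    rw [← h1]; exact hBV.trans (o2_cent_le D k)
  exact PlugT.false_ofT D hML hKL (kgroup_mono (hK k) (JJ_le k)) (T_le_JJ D k) (JJ_le k) (P_le_JJ D k) hgen hn
    (vec_not D hst hJ) hst (fun R hR hRJ hRm => hU k R hR (hRJ.trans (JJ_le k)) hRm) (eab_iff.1 hB).2
    (hBQ.trans (D.Q_le_o2D _)) h2 hBe hBm

/-- **no side fails** -/
theorem false_of_fail (hU : HU T V v) {i : Fin 2} (hF : Fail V v i) : False := by
  have hF' : ¬ Fail V v (i + 1) := by
    intro h
    apply not_fail D hML hK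
    intro j
    rcases eq_or_ne i j with h1 | h1
    · rw [← h1]; exact hF
    · rw [OM.KTwo.eq_add_one h1]; exact h
  exact false_of_gen D hML hKL hK hU (k := i + 1) (fun U hv hn => gen_JJ D hML hK hF hv hn)
    (JJ_not D hML hK hF) hF'

/-- **`V k ≰ N_k`** for both `k` -/
theorem not_le (hU : HU T V v) (k : Fin 2) : ¬ V k ≤ NU V v k := by
  intro hV
  refine false_of_gen D hML hKL hK hU (k := k) (fun U hv hn => ?_) ?_ fun hF => false_of_fail D hML hKL hK hU hF
  · rw [JJ_eq D hV] at hn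
    exact D.NH_CC k ▸ NH_le hv hn
  · rw [JJ_eq D hV]
    intro h
    exact D.comp k fun c hc => ⟨1, one_mem _, c, h hc, by group⟩

/-- the exact groups on both sides -/
theorem exists_ex (hU : HU T V v) (k : Fin 2) : ∃ B : Subgroup G, IsElementaryAbelian 2 B ∧
    B ≤ QQ v (k + 1) ∧ B ≤ o2 (centralizer (V k : Set G)) ∧ OM.PG.Int.Ex B (NU V v k) ∧
      ¬ B ≤ centralizer (NU V v k : Set G) :=
  of_not_fail D hML hK fun hF => false_of_fail D hML hKL hK hU hF

/-- a normal subgroup `X` of `C_k` with `[V k, X] ≤ V k N_k` centralises `N_k` -/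
theorem no_X (hU : HU T V v) {k : Fin 2} {X : Subgroup G} (hX : X ≤ CC v k) (hn : CC v k ≤ normalizer (X : Set G))
    (h : ∀ x ∈ X, ∀ w ∈ V k, x * w * x⁻¹ * w⁻¹ ∈ V k ⊔ NU V v k) : X ≤ centralizer (NU V v k : Set G) := by
  by_contra hm
  have hmul := D.lem0 hX hn hm
  -- `X ≤ J'`
  have hXJ : X ≤ JJ V v k := by
    refine le_inf hX ?_
    apply le_norm_of
    intro x hx y hy
    obtain ⟨n, hn', w, hw, rfl⟩ := OM.KTwo.exists_mul_of_mem_sup ((D.V_le_T k).trans ((D.T_le_C k).trans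
      (D.C_le_N_N k))) (by rw [sup_comm]; exact hy)
    have h1 := h x hx w hw
    have h2 := (mem_normalizer_iff.1 (D.C_le_N_N k (hX hx)) n).1 hn'
    have e : x * (n * w) * x⁻¹ = (x * n * x⁻¹) * ((x * w * x⁻¹ * w⁻¹) * w) := by group
    rw [e]
    exact mul_mem (mem_sup_right h2) (mul_mem h1 (mem_sup_left hw))
  refine false_of_gen D hML hKL hK hU (k := k) (fun U hv hn' => ?_) ?_ fun hF => false_of_fail D hML hKL hK hU hF
  · -- `N_k = ⟨v (k+1) ^ X⟩`
    rw [← D.NH_CC]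
    refine NoFF.Basic.V_le fun c hc => ?_
    obtain ⟨x, hx, d, hd, rfl⟩ := hmul c hc
    have h1 : MulAut.conj d • zpowers (v (k + 1)) = zpowers (v (k + 1)) := by
      apply NOThreeL.Pair.conj_eq_of_mem
      apply centralizer_le_normalizer
      rw [mem_centralizer_iff]
      rintro _ ⟨n, rfl⟩
      have h1 : Commute d (v (k + 1)) := mem_centralizer_singleton_iff.1 (D.cent_zc_le _ hd)
      exact (h1.zpow_right n).eq.symm
    rw [← NoFF.Basic.conj_conj, h1]
    have h2 : MulAut.conj x • U = U := NOThreeL.Pair.conj_eq_of_mem (hn' (hXJ hx))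
    rw [← h2, NoFF.Basic.conj_le_iff, zpowers_le]
    exact hv
  · intro hJ
    refine D.comp k fun c hc => ?_
    obtain ⟨x, hx, d, hd, e⟩ := hmul c⁻¹ (inv_mem hc)
    refine ⟨d⁻¹, inv_mem hd, x⁻¹, inv_mem (hJ (hXJ hx)), ?_⟩
    rw [← mul_inv_rev, ← e, inv_inv]

/-- **THEOREM G** over every frame -/
theorem thmG (hU : HU T V v) : ThmG V v := by
  intro k c hc h
  -- `X = {x ∈ C_k : [W_k N_k, x] ≤ N_k}`
  have hWN : CC v k ≤ normalizer ((WU V v k ⊔ NU V v k : Subgroup G) : Set G) := by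
    apply le_norm_of
    intro g hg x hx
    have h3 : ChoiceBase.cj g (WU V v k ⊔ NU V v k) = WU V v k ⊔ NU V v k := by
      rw [ChoiceBase.cj, Subgroup.map_sup]
      change ChoiceBase.cj g _ ⊔ ChoiceBase.cj g _ = _
      rw [ChoiceBase.cj_eq_of_mem_normalizer (D.C_le_N_W k hg), ChoiceBase.cj_eq_of_mem_normalizer (D.C_le_N_N k hg)]
    rw [← h3]
    exact ⟨x, hx, rfl⟩
  have hN : ∀ g ∈ CC v k, ∀ n ∈ NU V v k, g * n * g⁻¹ ∈ NU V v k := fun g hg n hn =>
    (mem_normalizer_iff.1 (D.C_le_N_N k hg) n).1 hn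
  have hW : ∀ g ∈ CC v k, ∀ n ∈ WU V v k ⊔ NU V v k, g * n * g⁻¹ ∈ WU V v k ⊔ NU V v k := fun g hg n hn =>
    (mem_normalizer_iff.1 (hWN hg) n).1 hn
  let X : Subgroup G :=
    { carrier := {x | x ∈ CC v k ∧ ∀ m ∈ WU V v k ⊔ NU V v k, x * m * x⁻¹ * m⁻¹ ∈ NU V v k}
      one_mem' := ⟨one_mem _, fun m _ => by simp⟩
      mul_mem' := by
        rintro a b ⟨ha, ha'⟩ ⟨hb, hb'⟩
        refine ⟨mul_mem ha hb, fun m hm => ?_⟩
        have e : a * b * m * (a * b)⁻¹ * m⁻¹ = (a * (b * m * b⁻¹) * a⁻¹ * (b * m * b⁻¹)⁻¹) * (b * m * b⁻¹ * m⁻¹) := by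
          group
        rw [e]
        exact mul_mem (ha' _ (hW b hb m hm)) (hb' m hm)
      inv_mem' := by
        rintro a ⟨ha, ha'⟩
        refine ⟨inv_mem ha, fun m hm => ?_⟩
        have h1 := hW _ (inv_mem ha) m hm
        rw [inv_inv] at h1
        have h2 := inv_mem (ha' _ h1)
        have e : a⁻¹ * m * a⁻¹⁻¹ * m⁻¹ = (a * (a⁻¹ * m * a) * a⁻¹ * (a⁻¹ * m * a)⁻¹)⁻¹ := by group
        rw [e]
        exact h2 }
  have hXC : X ≤ CC v k := fun x hx => hx.1
  have hXn : CC v k ≤ normalizer (X : Set G) := by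
    apply le_norm_of
    rintro g hg x ⟨hx, hx'⟩
    refine ⟨mul_mem (mul_mem hg hx) (inv_mem hg), fun m hm => ?_⟩
    have h1 := hW _ (inv_mem hg) m hm
    rw [inv_inv] at h1
    have h2 := hN g hg _ (hx' _ h1)
    have e : g * x * g⁻¹ * m * (g * x * g⁻¹)⁻¹ * m⁻¹ = g * (x * (g⁻¹ * m * g) * x⁻¹ * (g⁻¹ * m * g)⁻¹) * g⁻¹ := by group
    rw [e]
    exact h2
  have h1 := no_X D hML hKL hK hU hXC hXn fun x hx w hw =>
    mem_sup_right (hx.2 w (mem_sup_left (D.V_le_W k hw)))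
  refine h1 ⟨hc, fun m hm => ?_⟩
  have h2 := inv_mem (h m hm)
  have e : c * m * c⁻¹ * m⁻¹ = (m * c * m⁻¹ * c⁻¹)⁻¹ := by group
  rw [e]
  exact h2

/-- **(1b)** of #21425: `A ∈ AA O₂(D)` moves `N_k`: `C_A(N_k)` does not centralise `W_k N_k` -/
theorem no_1b (hU : HU T V v) {k : Fin 2} {A : Subgroup G} (hA : A ∈ AA (o2 (centralizer (zc T : Set G))))
    (hm : ¬ A ≤ centralizer (NU V v k : Set G)) :
    ¬ A ⊓ centralizer (NU V v k : Set G) ≤ centralizer ((WU V v k ⊔ NU V v k : Subgroup G) : Set G) := by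
  intro hc
  apply hm
  set X : Subgroup G := WU V v k ⊔ NU V v k with hX
  have hXO : X ≤ o2 (centralizer (zc T : Set G)) :=
    sup_le ((D.W_le_Q k).trans (D.Q_le_o2D k)) (D.N_le_oD k)
  have h1 := off (D.WN_eab k) hXO hA
  have h2 : (centralizer (X : Set G)).relIndex A = (centralizer (NU V v k : Set G)).relIndex A := by
    have h3 : A ⊓ centralizer (X : Set G) = A ⊓ centralizer (NU V v k : Set G) :=
      le_antisymm (inf_le_inf_left _ (centralizer_le (le_sup_right : NU V v k ≤ X))) (le_inf inf_le_left hc)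
    rw [← inf_relIndex_left, h3, inf_relIndex_left]
  have h3 : (centralizer (NU V v k : Set G)).relIndex A = (centralizer (A : Set G)).relIndex (NU V v k) :=
    (sharp D hML hK k hA).1
  rw [h2, h3] at h1
  intro a ha
  refine thmG D hML hKL hK hU k a ((hA.2.1.trans ((o2_le _).trans (D.cent_zc_le k))) ha) fun x hx => ?_
  obtain ⟨n, hn, c, hcX, hcA, rfl⟩ := le_sup_of_relIndex (le_sup_right : NU V v k ≤ X) h1 (D.WN_comm k) hx
  have h4 : c * a = a * c := (mem_centralizer_iff.1 hcA a ha).symm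
  have h5 : n * c * a * (n * c)⁻¹ * a⁻¹ = n * (a * n⁻¹ * a⁻¹) := by
    calc n * c * a * (n * c)⁻¹ * a⁻¹ = n * (c * a) * c⁻¹ * n⁻¹ * a⁻¹ := by group
      _ = n * (a * n⁻¹ * a⁻¹) := by rw [h4]; group
  rw [h5]
  have haC : a ∈ CC v k := (hA.2.1.trans ((o2_le _).trans (D.cent_zc_le k))) ha
  exact mul_mem hn ((mem_normalizer_iff.1 (D.C_le_N_N k haC) _).1 (inv_mem hn))

end Cfsg.Agent.Omega.KL.EndR

end

section


/-!
# CARD #18791 "(E) = TWO CENTRES", `q = 2`: THEOREM I over the frame `Fr`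

`D : Fr T V P v`, `Qs` a normal subgroup of `D = C_G(Ω₁Z(T))` with `E_0, E_1 ≤ Qs ≤ O₂(D)` (`E_i = N_i ⟨v i⟩`), e.g.
`O₂(D)` or `Q_0 Q_1`; (NO) = `MLK` for the K-groups `C_G(v i)`.

* `Fr.thmI_not_conj` : `v (i+1)` and `v 0 v 1` are not conjugate in `C_i`;
* `Fr.thmI_exact` : `|A : C_A(E_i)| = |E_i : C_{E_i}(A)|` for `A ∈ AA Qs`;
* `Fr.thmI_exact` (second part) : (K3) `x ∈ E_i`, `[x,A] ≤ ⟨v i⟩` ⟹ `[x,A] = 1` for `A ∈ AA Qs`;
* `Fr.thmI_side` : `ThmI.Side`;
* `Fr.thmI` : **THEOREM I**: if members of `AA Qs` move `V 0` and `V 1`, then `E_0 ⊓ E_1 ≤ Ω₁Z(T)`;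
* `Fr.thmI_one` : one-sided version.
-/

set_option autoImplicit false
set_option linter.unusedSectionVars false

namespace Cfsg.Agent.Omega.TC

open Subgroup Cfsg Cfsg.Agent.ZN Cfsg.Agent.Omega.MinPar Cfsg.Agent.PLocal.ThompsonJ
open Cfsg.Agent.Omega.OM.KTwo (CC QQ WU NU EU FF ne_add_one eq_add_one add_one_add_one le_normalizer_V le_V
  le_o2_of_commutator)
open Cfsg.Agent.MinSimple.MinParabolic (IsMinPar)
open Cfsg.Agent.Omega.NoFF.Basic (conj_conj mem_conj conj_le_iff conj_le_centralizer comm_symm comm_mono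
  Z_le_V V_le conj_V_mul)
open Cfsg.Agent.Omega.NOThreeL.Pair (conj_eq_of_mem conj_le_normalizer)
open Cfsg.Agent.ZN.ChoiceSit (Syl exists_syl syl_conj o2_le_syl)
open Cfsg.Agent.MinSimple.VModule (mem_zc zc_le normalizer_le_normalizer_zc le_normalizer_o2 le_o2 o2_le
  o2_isPGroup zc_le_centralizer le_centralizer_zc)
open Cfsg.Agent.Omega.NO3b.Ineq (cidx cidx_pos cidx_eq_one_iff rel_ne)
open Cfsg.Agent.Omega.ML.Final (MLK)
open ChoiceBase (AA)
open ThmI (kp Side)
open scoped Pointwise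

universe u

variable {G : Type u} [Group G]

namespace ThmI

theorem fin_two_cases {i j : Fin 2} (h : i ≠ j) : (i = 0 ∧ j = 1) ∨ (i = 1 ∧ j = 0) := by
  revert i j; decide

theorem le_inf_normalizer {C A B : Subgroup G} (hA : C ≤ normalizer (A : Set G)) (hB : C ≤ normalizer (B : Set G)) :
    C ≤ normalizer ((A ⊓ B : Subgroup G) : Set G) := fun c hc => by
  rw [mem_normalizer_iff]
  intro x
  have h1 := (mem_normalizer_iff.1 (hA hc)) x
  have h2 := (mem_normalizer_iff.1 (hB hc)) x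
  rw [mem_inf, mem_inf, h1, h2]

theorem normalizer_le_normalizer_centralizer' (A : Subgroup G) :
    normalizer (A : Set G) ≤ normalizer ((centralizer (A : Set G) : Subgroup G) : Set G) := by
  have key : ∀ c ∈ normalizer (A : Set G), ∀ x ∈ centralizer (A : Set G), c * x * c⁻¹ ∈ centralizer (A : Set G) := by
    intro c hc x hx
    rw [mem_centralizer_iff]
    intro y hy
    have h1 : c⁻¹ * y * c ∈ A := by
      have := (mem_normalizer_iff.1 (inv_mem hc) y).1 hy
      rwa [inv_inv] at this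
    have h2 := mem_centralizer_iff.1 hx _ h1
    calc y * (c * x * c⁻¹) = c * ((c⁻¹ * y * c) * x) * c⁻¹ := by group
      _ = c * (x * (c⁻¹ * y * c)) * c⁻¹ := by rw [h2]
      _ = c * x * c⁻¹ * y := by group
  intro c hc
  rw [mem_normalizer_iff]
  intro x
  refine ⟨key c hc x, fun h => ?_⟩
  have h1 := key c⁻¹ (inv_mem hc) _ h
  have e : c⁻¹ * (c * x * c⁻¹) * c⁻¹⁻¹ = x := by group
  rwa [e] at h1

theorem centralizer_le_normalizer' {C : Subgroup G} (Y : Subgroup G) (h : C ≤ centralizer (Y : Set G)) :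
    C ≤ normalizer (Y : Set G) := h.trans (OM.ThreeCore.cent_norm Y)

end ThmI

open ThmI (fin_two_cases le_inf_normalizer normalizer_le_normalizer_centralizer' centralizer_le_normalizer')

namespace Fr

variable [Finite G] {T : Subgroup G} {V P : Fin 2 → Subgroup G} {v : Fin 2 → G} (D : Fr T V P v)

include D

theorem thmI_comm_vv (i j : Fin 2) : v i * v j = v j * v i := D.comm_v j (D.v_mem_T i)

/-- `C_i ∩ C_G(v 0 v 1) = D` -/
theorem thmI_inf_z_le {i j : Fin 2} (hij : i ≠ j) : CC v i ⊓ centralizer ({v i * v j} : Set G) ≤ centralizer (zc T : Set G) := by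
  rintro c ⟨h1', h2'⟩
  have h1 : c * v i = v i * c := mem_centralizer_singleton_iff.1 h1'
  have h2 : c * (v i * v j) = v i * v j * c := mem_centralizer_singleton_iff.1 h2'
  refine (D.mem_D_iff hij).2 ⟨h1', mem_centralizer_singleton_iff.2 ?_⟩
  have h3 : v i * (c * v j) = v i * (v j * c) := by
    calc v i * (c * v j) = (v i * c) * v j := by group
      _ = c * (v i * v j) := by rw [← h1]; group
      _ = v i * (v j * c) := by rw [h2]; group
  exact mul_left_cancel h3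

/-- `v j` and `v i v j` are not conjugate in `C_i` -/
theorem thmI_not_conj {i j : Fin 2} (hij : i ≠ j) {c : G} (hc : c ∈ CC v i) : c * v j * c⁻¹ ≠ v i * v j := by
  intro hcv
  -- `T`, `T^c` are Sylow in `C_i ∩ C(v i v j) = D`
  have hTc : ChoiceBase.cj c T ≤ centralizer (zc T : Set G) := by
    refine le_trans ?_ (D.thmI_inf_z_le hij)
    intro x hx
    rw [ChoiceBase.mem_cj] at hx
    have hx1 : x ∈ CC v i := by
      have h1 := mul_mem (mul_mem hc (D.T_le_C i hx)) (inv_mem hc)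
      have e : c * (c⁻¹ * x * c) * c⁻¹ = x := by group
      rwa [e] at h1
    refine ⟨hx1, mem_centralizer_singleton_iff.2 ?_⟩
    have h2 := D.comm_v j hx
    rw [← hcv]
    calc x * (c * v j * c⁻¹) = c * ((c⁻¹ * x * c) * v j) * c⁻¹ := by group
      _ = c * (v j * (c⁻¹ * x * c)) * c⁻¹ := by rw [h2]
      _ = c * v j * c⁻¹ * x := by group
  have hS2 : Syl (ChoiceBase.cj c T) (centralizer (zc T : Set G)) := by
    refine ⟨hTc, ChoiceBase.isPGroup_cj c D.T_isPGroup, fun R hR hR2 hTR => ?_⟩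
    have h1 : ChoiceBase.cj c⁻¹ R ≤ CC v i := by
      have h2 := ChoiceBase.cj_mono c⁻¹ (hR.trans (D.cent_zc_le i))
      refine h2.trans ?_
      intro x hx
      rw [ChoiceBase.mem_cj, inv_inv] at hx
      have h3 := mul_mem (mul_mem (inv_mem hc) hx) hc
      have e : c⁻¹ * (c * x * c⁻¹) * c = x := by group
      rwa [e] at h3
    have h2 : T ≤ ChoiceBase.cj c⁻¹ R := by
      have := ChoiceBase.cj_mono c⁻¹ hTR
      rwa [ChoiceBase.cj_inv_cj] at this
    rw [← (D.syl i).2.2 _ h1 (ChoiceBase.isPGroup_cj _ hR2) h2, ChoiceBase.cj_cj_inv]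
  obtain ⟨d, hd, hdT⟩ := syl_conj hS2 D.syl_D
  rw [ChoiceBase.cj_cj] at hdT
  have h1 : d * c ∈ centralizer (zc T : Set G) :=
    D.norm_T_le i ⟨mul_mem (D.cent_zc_le i hd) hc, ChoiceBase.mem_normalizer_iff_cj.2 hdT⟩
  have h2 : c ∈ centralizer (zc T : Set G) := by
    have := mul_mem (inv_mem hd) h1
    rwa [inv_mul_cancel_left] at this
  have h3 : c * v j = v j * c := mem_centralizer_singleton_iff.1 (D.cent_zc_le j h2)
  apply D.ne i
  rw [h3] at hcv
  have h4 : v j = v i * v j := by rw [← hcv]; group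
  exact (mul_eq_right.1 h4.symm)

/-- an element of `C_i` which fixes `v j` modulo `⟨v i⟩` is in `D` -/
theorem thmI_mem_D {i j : Fin 2} (hij : i ≠ j) {c : G} (hc : c ∈ CC v i)
    (h : c * v j * c⁻¹ * (v j)⁻¹ ∈ zpowers (v i)) : c ∈ centralizer (zc T : Set G) := by
  have hz : ∀ y ∈ zpowers (v i), y = 1 ∨ y = v i := by
    intro y hy
    obtain ⟨n, rfl⟩ := mem_zpowers_iff.1 hy
    rcases Int.even_or_odd' n with ⟨k, rfl | rfl⟩
    · left; rw [zpow_mul]
      have : v i ^ (2 : ℤ) = 1 := by have := D.v_sq' i; exact_mod_cast this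
      rw [this, one_zpow]
    · right; rw [zpow_add, zpow_mul, zpow_one]
      have : v i ^ (2 : ℤ) = 1 := by have := D.v_sq' i; exact_mod_cast this
      rw [this, one_zpow, one_mul]
  rcases hz _ h with h1 | h1
  · refine (D.mem_D_iff hij).2 ⟨hc, mem_centralizer_singleton_iff.2 ?_⟩
    calc c * v j = (c * v j * c⁻¹ * (v j)⁻¹) * (v j * c) := by group
      _ = v j * c := by rw [h1, one_mul]
  · exfalso
    apply D.thmI_not_conj hij hc
    rw [← h1]; group

/-- `[E_i, a] ≤ ⟨v i⟩` implies `[E_i, a] = 1`, for `a ∈ C_i` -/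
theorem thmI_cent (i : Fin 2) {a : G} (ha : a ∈ CC v i)
    (h : ∀ x ∈ EU T v i, a * x * a⁻¹ * x⁻¹ ∈ zpowers (v i)) : a ∈ centralizer (EU T v i : Set G) := by
  have hcen : ∀ c ∈ CC v i, ∀ z ∈ zpowers (v i), c * z * c⁻¹ = z := by
    intro c hc z hz
    have := mem_centralizer_iff.1 (CC_le_cent_zpowers i hc) z hz
    rw [← this]; group
  let K : Subgroup G :=
    { carrier := {k | k ∈ CC v i ∧ ∀ x ∈ EU T v i, k * x * k⁻¹ * x⁻¹ ∈ zpowers (v i)}
      one_mem' := ⟨one_mem _, fun x _ => by simp⟩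
      mul_mem' := by
        rintro a b ⟨ha, ha'⟩ ⟨hb, hb'⟩
        refine ⟨mul_mem ha hb, fun w hw => ?_⟩
        have e : a * b * w * (a * b)⁻¹ * w⁻¹ = (a * (b * w * b⁻¹ * w⁻¹) * a⁻¹) * (a * w * a⁻¹ * w⁻¹) := by group
        rw [e, hcen a ha _ (hb' w hw)]
        exact mul_mem (hb' w hw) (ha' w hw)
      inv_mem' := by
        rintro a ⟨ha, ha'⟩
        refine ⟨inv_mem ha, fun w hw => ?_⟩
        have e : a⁻¹ * w * a⁻¹⁻¹ * w⁻¹ = (a⁻¹ * (a * w * a⁻¹ * w⁻¹) * a⁻¹⁻¹)⁻¹ := by group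
        rw [e, hcen _ (inv_mem ha) _ (ha' w hw)]
        exact inv_mem (ha' w hw) }
  have hKC : CC v i ≤ normalizer (K : Set G) := by
    have key : ∀ c ∈ CC v i, ∀ k ∈ K, c * k * c⁻¹ ∈ K := by
      rintro c hc k ⟨hk, hk'⟩
      refine ⟨mul_mem (mul_mem hc hk) (inv_mem hc), fun x hx => ?_⟩
      have h1 : c⁻¹ * x * c ∈ EU T v i := by
        have := (mem_normalizer_iff.1 (D.C_le_N_E i (inv_mem hc)) x).1 hx
        rwa [inv_inv] at this
      have h2 := hk' _ h1
      have e : c * k * c⁻¹ * x * (c * k * c⁻¹)⁻¹ * x⁻¹ =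
          c * (k * (c⁻¹ * x * c) * k⁻¹ * (c⁻¹ * x * c)⁻¹) * c⁻¹ := by group
      rw [e, hcen c hc _ h2]
      exact h2
    intro c hc
    rw [mem_normalizer_iff]
    intro x
    refine ⟨key c hc x, fun h => ?_⟩
    have h1 := key c⁻¹ (inv_mem hc) _ h
    have e : c⁻¹ * (c * x * c⁻¹) * c⁻¹⁻¹ = x := by group
    rwa [e] at h1
  have hKD : K ≤ CC v (i + 1) := by
    rintro k ⟨hk, hk'⟩
    exact D.cent_zc_le _ (D.thmI_mem_D (ne_add_one i) hk (hk' _ (D.v_mem_E i _)))
  rw [D.cent_E i]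
  exact ⟨ha, D.cent_N_of_le hKD hKC ⟨ha, h⟩⟩

/-- the data of (ML) for `C_i` on `E_i / ⟨v i⟩` -/
theorem thmI_gdat {i : Fin 2} {Qs A : Subgroup G} (hQD : centralizer (zc T : Set G) ≤ normalizer (Qs : Set G))
    (hQo : Qs ≤ o2 (centralizer (zc T : Set G))) (hA2 : ∀ a ∈ A, a * a = 1) (hAQ : A ≤ Qs) :
    ML.Final.GDat (CC v i) (EU T v i) (zpowers (v i)) T Qs A (v (i + 1)) where
  nW := D.C_le_N_E i
  nY := centralizer_le_normalizer' _ (CC_le_cent_zpowers i)
  YW := by rw [zpowers_le]; exact D.v_mem_E i i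
  WY := by
    refine (((D.E_le_Q i).trans (D.Q_le_T i)).trans (D.T_le_C i)).trans ?_
    exact centralizer_le_normalizer' _ (CC_le_cent_zpowers i)
  sq := fun x hx => by
    have := D.E_sq i x hx
    rw [pow_two] at this
    rw [this]; exact one_mem _
  mem := D.v_mem_E i _
  gen := fun U hv hY hC => by
    have h1 : ∀ j, v j ∈ U := by
      intro j
      rcases eq_or_ne i j with h | h
      · rw [← h]; exact hY (mem_zpowers _)
      · rw [eq_add_one h]; exact hv
    have h2 : zc T ≤ U := by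
      intro x hx
      rcases (D.zT x).1 hx with h1' | h1' | h1' | h1'
      · rw [h1']; exact one_mem _
      · rw [h1']; exact h1 0
      · rw [h1']; exact h1 1
      · rw [h1']; exact mul_mem (h1 0) (h1 1)
    refine V_le fun c hc => ?_
    have h4 := conj_le_iff (g := c) |>.2 h2
    rwa [conj_eq_of_mem (hC hc)] at h4
  TC := D.T_le_C i
  two := D.T_isPGroup
  odd := Cfsg.Agent.ZN.ChoiceSit.syl_not_dvd (D.syl i)
  fixT := fun t ht => by rw [D.cen _ ht]; simp
  QC := hQo.trans (D.o2D_le_T.trans (D.T_le_C i))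
  Q2 := D.T_isPGroup.to_le (hQo.trans D.o2D_le_T)
  fixQ := fun t ht => by rw [D.cen _ (D.o2D_le_T (hQo ht))]; simp
  nrmQ := fun g hg h q hq => (mem_normalizer_iff.1 (hQD (D.thmI_mem_D (ne_add_one i) hg h)) q).1 hq
  AQ := hAQ
  Asq := fun a ha x _ => by
    have e : a * (a * x * a⁻¹) * a⁻¹ * x⁻¹ = (a * a) * x * (a * a)⁻¹ * x⁻¹ := by group
    rw [e, hA2 a ha]; simp

/-- **exactness of `AA Qs` on `E_i`, and (K3)** -/
theorem thmI_exact (hML : MLK.{u, u}) {i : Fin 2} (hK : IsKGroup (CC v i)) {Qs A : Subgroup G}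
    (hQD : centralizer (zc T : Set G) ≤ normalizer (Qs : Set G))
    (hQo : Qs ≤ o2 (centralizer (zc T : Set G))) (hEQ : EU T v i ≤ Qs) (hA : A ∈ AA Qs) :
    cidx A (EU T v i) = cidx (EU T v i) A ∧
      ∀ x ∈ EU T v i, (∀ a ∈ A, kp a x ∈ zpowers (v i)) → ∀ a ∈ A, a * x = x * a := by
  set W : Subgroup G := EU T v i with hW
  have hAC : A ≤ CC v i := hA.2.1.trans (hQo.trans (D.o2D_le_T.trans (D.T_le_C i)))
  have hWe : IsElementaryAbelian 2 W := isElementaryAbelian_iff.2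
    ⟨fun a ha b hb => (mem_centralizer_iff.1 (D.E_comm i ha) b hb).symm, fun a ha => D.E_sq i a ha⟩
  have hAsq : ∀ a ∈ A, a * a = 1 := fun a ha => by rw [← pow_two]; exact (isElementaryAbelian_iff.1 hA.1).2 a ha
  -- (T)
  have h1 := OM.ThreeCore.off_le hA hWe hEQ
  -- (NO)
  let CW : Subgroup G :=
    { carrier := {x | x ∈ W ∧ ∀ a ∈ A, a * x * a⁻¹ * x⁻¹ ∈ zpowers (v i)}
      one_mem' := ⟨one_mem _, fun a _ => by simp⟩
      mul_mem' := by
        rintro x y ⟨hx, hx'⟩ ⟨hy, hy'⟩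
        refine ⟨mul_mem hx hy, fun a ha => ?_⟩
        have h2 := ThmI.kp_mul (N := W) (isElementaryAbelian_iff.1 hWe).1 (a := a) hx hy
          ((mem_normalizer_iff.1 (D.C_le_N_E i (hAC ha)) y).1 hy)
        unfold kp at h2
        rw [h2]
        exact mul_mem (hx' a ha) (hy' a ha)
      inv_mem' := by
        rintro x ⟨hx, hx'⟩
        have h2 : x⁻¹ = x := inv_eq_of_mul_eq_one_left (by rw [← pow_two]; exact D.E_sq i x hx)
        rw [h2]
        exact ⟨hx, hx'⟩ }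
  have hCWm : ∀ x, x ∈ CW ↔ x ∈ W ∧ ∀ a ∈ A, a * x * a⁻¹ * x⁻¹ ∈ zpowers (v i) := fun x => Iff.rfl
  have hKAm : ∀ a, a ∈ A ⊓ centralizer (W : Set G) ↔ a ∈ A ∧ ∀ x ∈ W, a * x * a⁻¹ * x⁻¹ ∈ zpowers (v i) := by
    intro a
    constructor
    · rintro ⟨ha, hc⟩
      refine ⟨ha, fun x hx => ?_⟩
      rw [ThmI.kp_eq_one_iff (a := a) (x := x) |>.2 (mem_centralizer_iff.1 hc x hx).symm |> (show a * x * a⁻¹ * x⁻¹ = 1 from ·)]
      exact one_mem _
    · rintro ⟨ha, hc⟩
      exact ⟨ha, D.thmI_cent i (hAC ha) hc⟩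
  have h2 : (A ⊓ centralizer (W : Set G)).relIndex A ≤ CW.relIndex W :=
    hML.grp hK (D.thmI_gdat hQD hQo hAsq hA.2.1) hKAm hCWm
  have h3 : (A ⊓ centralizer (W : Set G)).relIndex A = cidx A W := Cfsg.Agent.Omega.NO3b.Ineq.cidx_inf A W
  have hle : W ⊓ centralizer (A : Set G) ≤ CW := by
    rintro x ⟨hx, hc⟩
    refine ⟨hx, fun a ha => ?_⟩
    have h4 : a * x = x * a := mem_centralizer_iff.1 hc a ha
    rw [h4]
    simp
  have h4 : (W ⊓ centralizer (A : Set G)).relIndex W = cidx W A := Cfsg.Agent.Omega.NO3b.Ineq.cidx_inf W A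
  have h5 : (W ⊓ centralizer (A : Set G)).relIndex CW * CW.relIndex W = (W ⊓ centralizer (A : Set G)).relIndex W :=
    relIndex_mul_relIndex _ _ _ hle fun x hx => hx.1
  rw [h3] at h2
  rw [h4] at h5
  have h6 : 0 < CW.relIndex W := Nat.pos_of_ne_zero (rel_ne _ _)
  have h7 : 0 < (W ⊓ centralizer (A : Set G)).relIndex CW := Nat.pos_of_ne_zero (rel_ne _ _)
  have h8 : CW.relIndex W ≤ cidx W A := by
    rw [← h5]; exact Nat.le_mul_of_pos_left _ h7
  have h9 : (W ⊓ centralizer (A : Set G)).relIndex CW = 1 := by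
    by_contra hne
    have h10 : 2 ≤ (W ⊓ centralizer (A : Set G)).relIndex CW := by omega
    have h11 : 2 * CW.relIndex W ≤ cidx W A := by
      rw [← h5]; exact Nat.mul_le_mul_right _ h10
    omega
  refine ⟨by omega, fun x hx hk a ha => ?_⟩
  have h10 : x ∈ CW := ⟨hx, hk⟩
  exact mem_centralizer_iff.1 (relIndex_eq_one.1 h9 h10).2 a ha

theorem thmI_zpowers_v (i : Fin 2) {y : G} : y ∈ zpowers (v i) ↔ y = 1 ∨ y = v i := by
  constructor
  · intro h
    obtain ⟨n, rfl⟩ := mem_zpowers_iff.1 h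
    have h2 : v i ^ (2 : ℤ) = 1 := by have := D.v_sq' i; exact_mod_cast this
    rcases Int.even_or_odd' n with ⟨k, rfl | rfl⟩
    · left; rw [zpow_mul, h2, one_zpow]
    · right; rw [zpow_add, zpow_mul, zpow_one, h2, one_zpow, one_mul]
  · rintro (rfl | rfl)
    · exact one_mem _
    · exact mem_zpowers _

/-- `C_T(V j) ≤ O₂(P j)` -/
theorem thmI_inf_cent_le (j : Fin 2) : T ⊓ centralizer (V j : Set G) ≤ o2 (P j) := by
  obtain ⟨i, hij⟩ : ∃ i : Fin 2, i ≠ j := ⟨j + 1, (ne_add_one j).symm⟩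
  have hsyl : Syl T (P j) := ⟨D.T_le_P j, D.T_isPGroup, fun Q hQ hQ2 hTQ =>
    (D.syl i).2.2 Q (hQ.trans (D.PC j i hij.symm)) hQ2 hTQ⟩
  have hN : P j ≤ normalizer ((P j ⊓ centralizer (V j : Set G) : Subgroup G) : Set G) := by
    refine le_inf_normalizer ?_ ?_
    · exact le_normalizer
    · exact (D.PN j j).trans (normalizer_le_normalizer_centralizer' _)
  rcases (D.par j).sup_eq_or_inf_le D.T_isPGroup (Cfsg.Agent.ZN.ChoiceSit.syl_not_dvd hsyl) inf_le_left hN with h | h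
  · exfalso
    apply D.mv j
    rw [← h]
    refine sup_le (inf_le_right.trans ?_) (D.T_le_C j)
    exact centralizer_le (Set.singleton_subset_iff.2 (D.mem j))
  · refine le_trans (le_inf inf_le_left (le_inf (inf_le_left.trans (D.T_le_P j)) inf_le_right)) h

/-- the hypotheses of THEOREM I -/
theorem thmI_side (hML : MLK.{u, u}) {i j : Fin 2} (hij : i ≠ j) (hK : IsKGroup (CC v i)) {Qs : Subgroup G}
    (hQD : centralizer (zc T : Set G) ≤ normalizer (Qs : Set G))
    (hQo : Qs ≤ o2 (centralizer (zc T : Set G))) (hEQ : EU T v i ≤ Qs) :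
    Side T Qs (EU T v i) (V j) (P j) (v i) (v j) where
  TP := D.T_le_P j
  QT := hQo.trans D.o2D_le_T
  NQ := hEQ
  Nc := fun a ha b hb => (mem_centralizer_iff.1 (D.E_comm i ha) b hb).symm
  Nsq := fun a ha => by rw [← pow_two]; exact D.E_sq i a ha
  zN := D.v_mem_E i i
  z1 := D.ne i
  vV := D.mem j
  v1 := D.ne j
  zV := fun h => by
    obtain ⟨l, hl, -, hlv⟩ := D.tr hij.symm h (D.ne i)
    have h1 := mem_centralizer_singleton_iff.1 (D.PC j i hij.symm hl)
    apply D.mv j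
    have h2 : v j = v i := by
      have h3 : l * v j = l * v i := by
        calc l * v j = l * v j * l⁻¹ * l := by group
          _ = v i * l := by rw [hlv]
          _ = l * v i := h1.symm
      exact mul_left_cancel h3
    rw [h2]; exact D.PC j i hij.symm
  VN := by
    rw [eq_add_one hij]; exact D.V_le_E i
  V4 := D.four j
  Tv := fun t ht => D.cen j ht
  Pz := fun p hp => by
    rw [mem_centralizer_singleton_iff.1 (D.PC j i hij.symm hp)]; group
  PV := fun p hp x hx => (mem_normalizer_iff.1 (D.PN j j hp) x).1 hx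
  PN := fun p hp x hx => (mem_normalizer_iff.1 (D.C_le_N_E i (D.PC j i hij.symm hp)) x).1 hx
  PR := fun p hp e he heV => by
    have h1 : e ∈ o2 (P j) := D.thmI_inf_cent_le j ⟨he, mem_centralizer_iff.2 fun x hx => (heV x hx).symm⟩
    have h2 := (mem_normalizer_iff.1 (MinSimple.VModule.le_normalizer_o2 _ hp) e).1 h1
    have hsyl : Syl T (P j) := ⟨D.T_le_P j, D.T_isPGroup, fun Q hQ hQ2 hTQ =>
      (D.syl i).2.2 Q (hQ.trans (D.PC j i hij.symm)) hQ2 hTQ⟩
    exact o2_le_syl hsyl h2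
  tr := by
    obtain ⟨x, hx, hx1, hxv⟩ := D.exists_ne_v j
    obtain ⟨l, hl, -, hlx⟩ := D.tr hij.symm hx hx1
    exact ⟨l, hl, by rw [hlx]; exact hxv⟩
  K3 := fun A hA x hx h => (D.thmI_exact hML hK hQD hQo hEQ hA).2 x hx fun a ha => by
    rw [D.thmI_zpowers_v]; exact h a ha

/-- `(2)` of THEOREM I: `r ∈ E_i ∩ E_j`, `[r,T] ≤ Ω₁Z(T)` implies `[r,T] ≤ ⟨v i⟩` if `AA Qs` moves `V j`. -/
theorem thmI_one (hML : MLK.{u, u}) {i j : Fin 2} (hij : i ≠ j) (hK : ∀ i, IsKGroup (CC v i)) {Qs A : Subgroup G}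
    (hQD : centralizer (zc T : Set G) ≤ normalizer (Qs : Set G))
    (hQo : Qs ≤ o2 (centralizer (zc T : Set G))) (hEQ : ∀ i, EU T v i ≤ Qs) (hA : A ∈ AA Qs)
    (hAV : ¬ A ≤ centralizer (V j : Set G)) {r : G} (hr : r ∈ EU T v i ⊓ EU T v j)
    (hrT : ∀ t ∈ T, kp t r ∈ zc T) : ∀ t ∈ T, kp t r ∈ zpowers (v i) := by
  intro t ht
  rw [D.thmI_zpowers_v]
  refine (D.thmI_side hML hij (hK i) hQD hQo (hEQ i)).two (D.thmI_side hML hij.symm (hK j) hQD hQo (hEQ j)).K3 hA
    (fun h => hAV fun a ha => mem_centralizer_iff.2 fun x hx => (h a ha x hx).symm) hr.1 hr.2 ?_ t ht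
  intro t ht
  have h1 := (D.zT _).1 (hrT t ht)
  rcases fin_two_cases hij with ⟨rfl, rfl⟩ | ⟨rfl, rfl⟩
  · exact h1
  · rcases h1 with h | h | h | h
    · exact Or.inl h
    · exact Or.inr (Or.inr (Or.inl h))
    · exact Or.inr (Or.inl h)
    · right; right; right
      rw [h]
      exact D.comm_v 1 (D.v_mem_T 0)

/-- **THEOREM I** (bb OMEGA #20267, helper990; also #20259 (helper15), #20647 (3) (helper609)): if members of `AA Qs`
move `V 0` and `V 1` then `E_0 ∩ E_1 ≤ Ω₁Z(T)`. -/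
theorem thmI (hML : MLK.{u, u}) (hK : ∀ i, IsKGroup (CC v i)) {Qs : Subgroup G}
    (hQD : centralizer (zc T : Set G) ≤ normalizer (Qs : Set G))
    (hQo : Qs ≤ o2 (centralizer (zc T : Set G))) (hEQ : ∀ i, EU T v i ≤ Qs)
    (hA : ∀ i, ∃ A ∈ AA Qs, ¬ A ≤ centralizer (V i : Set G)) : EU T v 0 ⊓ EU T v 1 ≤ zc T := by
  have h01 : (0 : Fin 2) ≠ 1 := by decide
  obtain ⟨A0, hA0, hA0V⟩ := hA 0
  obtain ⟨A1, hA1, hA1V⟩ := hA 1
  intro x hx
  rw [D.zT]
  refine ThmI.inter_le D.T_isPGroup (D.thmI_side hML h01 (hK 0) hQD hQo (hEQ 0))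
    (D.thmI_side hML h01.symm (hK 1) hQD hQo (hEQ 1)) hA1
    (fun h => hA1V fun a ha => mem_centralizer_iff.2 fun x hx => (h a ha x hx).symm) hA0
    (fun h => hA0V fun a ha => mem_centralizer_iff.2 fun x hx => (h a ha x hx).symm) ?_ x hx
  intro y hy hT
  rw [← D.zT]
  exact MinSimple.VModule.mem_zc.2 ⟨D.Q_le_T 0 (D.E_le_Q 0 hy.1), hT, D.E_sq 0 y hy.1⟩

end Fr

end Cfsg.Agent.Omega.TC

end

section


/-!
# CARD #18791 "(E) = TWO CENTRES", `q = 2`: helper716 #19420, COROLLARY of LEMMA Q and LEMMA R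

`D : Fr T V P v`, `hML : MLK`, `hK : ∀ i, IsKGroup (CC v i)`; LEMMA Q itself is `Fr.sub_comm`, `Fr.lemQ` (TC/No.lean).

* `Fr.noD_of`, `Fr.noQ_of` : helper15's `NoD`, `NoQ` (TC/Int.lean), literally;
* `Fr.sub_RR` : `[U, R_i] = 1` for the proper submodules `U` of `N_i`;
* `Fr.W_eq_N` : **COROLLARY** `[N_0, N_1] ≠ 1`, `V_j ≤ N_j` ⟹ `W_j = N_j`.
-/

set_option autoImplicit false
set_option linter.unusedSectionVars false

namespace Cfsg.Agent.Omega.TC

open Subgroup Cfsg Cfsg.Agent.ZN Cfsg.Agent.Omega.MinPar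
open Cfsg.Agent.Omega.OM.KTwo (CC QQ WU NU EU FF ne_add_one eq_add_one add_one_add_one le_normalizer_V le_V)
open Cfsg.Agent.Omega.NoFF.Basic (conj_conj mem_conj conj_le_iff conj_le_centralizer comm_symm comm_mono
  Z_le_V V_le conj_V_mul)
open Cfsg.Agent.Omega.NOThreeL.Pair (conj_eq_of_mem)
open Cfsg.Agent.MinSimple.VModule (mem_zc zc_le le_o2 o2_isPGroup le_centralizer_zc)
open Cfsg.Agent.Omega.ML.Final (MLK)
open scoped Pointwise

universe u

variable {G : Type u} [Group G]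

namespace Fr

variable [Finite G] {T : Subgroup G} {V P : Fin 2 → Subgroup G} {v : Fin 2 → G} (D : Fr T V P v)

include D

/-- helper15's `NoD` -/
theorem noD_of (hML : MLK.{u, u}) (hK : ∀ i, IsKGroup (CC v i)) (i : Fin 2) (B : Subgroup G)
    (hB : IsElementaryAbelian 2 B) (hBD : B ≤ o2 (centralizer (zc T : Set G))) :
    (centralizer (NU V v i : Set G)).relIndex B ≤ (centralizer (B : Set G)).relIndex (NU V v i) :=
  D.no_N hML (hK i) hBD hB.2

theorem v_notMem_zp (i : Fin 2) : v (i + 1) ∉ zpowers (v i) := by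
  intro h
  apply D.mv (i + 1)
  intro p hp
  have h1 : p ∈ CC v i := D.PC (i + 1) i (ne_add_one i).symm hp
  rw [mem_centralizer_singleton_iff]
  obtain ⟨n, hn⟩ := mem_zpowers_iff.1 h
  have h2 : Commute p (v i) := mem_centralizer_singleton_iff.1 h1
  rw [← hn]
  exact (h2.zpow_right n).eq

/-- helper15's `NoQ` -/
theorem noQ_of (hML : MLK.{u, u}) (hK : ∀ i, IsKGroup (CC v i)) (i : Fin 2) (B : Subgroup G)
    (hB : IsElementaryAbelian 2 B) (hBD : B ≤ o2 (centralizer (zc T : Set G))) (M : Subgroup G)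
    (hM : M ≤ NU V v i) (hMB : ∀ m ∈ M, ∀ b ∈ B, m * b * m⁻¹ * b⁻¹ ∈ zpowers (v i)) :
    (centralizer (NU V v i : Set G)).relIndex B ≤ M.relIndex (NU V v i) := by
  have hz : CC v i ≤ normalizer (zpowers (v i) : Set G) := fun c hc =>
    centralizer_le_normalizer _ (CC_le_cent_zpowers i hc)
  have hBC : B ≤ CC v i := (hBD.trans (o2_le _)).trans (D.cent_zc_le i)
  have h := D.no hML (H := CC v i) (Y := NU V v i ⊓ zpowers (v i)) (A := B) (M := M) (hK i) (D.T_le_C i) le_rfl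
    (fun c hc => ?_) (by rw [D.NH_CC]; exact inf_le_left) (fun h => D.v_notMem_zp i h.2) hBD hBC hB.2
    (by rwa [D.NH_CC]) fun m hm b hb => ?_
  · rwa [D.NH_CC] at h
  · have ha := D.C_le_N_N i hc
    have hb := hz hc
    rw [mem_normalizer_iff] at ha hb ⊢
    intro y
    exact ⟨fun hy => ⟨(ha y).1 hy.1, (hb y).1 hy.2⟩, fun hy => ⟨(ha y).2 hy.1, (hb y).2 hy.2⟩⟩
  · have h0 : b * m * b⁻¹ ∈ NU V v i := (mem_normalizer_iff.1 (D.C_le_N_N i (hBC hb)) m).1 (hM hm)
    refine ⟨(NU V v i).mul_mem h0 ((NU V v i).inv_mem (hM hm)), ?_⟩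
    have h1 := inv_mem (hMB m hm b hb)
    have e : (m * b * m⁻¹ * b⁻¹)⁻¹ = b * m * b⁻¹ * m⁻¹ := by group
    rwa [e] at h1

/-- LEMMA Q: `R_i = ⟨N_j ^ C_i⟩` centralises the proper submodules of `N_i`. -/
theorem sub_RR (hML : MLK.{u, u}) (hK : ∀ i, IsKGroup (CC v i)) {i j : Fin 2} (hij : i ≠ j) {U : Subgroup G}
    (hn : CC v i ≤ normalizer (U : Set G)) (hUN : U ≤ NU V v i) (hU : ¬ NU V v i ≤ U) :
    RR V v j i ≤ centralizer (U : Set G) := V_le fun c hc => by
  have hv : v (i + 1) ∉ U := fun h => hU (by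
    rw [← D.NH_CC]
    exact NH_le h hn)
  have h0 := D.sub_comm hML hK hn hUN hv
  rw [← eq_add_one hij] at h0
  have h1 := conj_le_centralizer (g := c) (comm_symm h0)
  rwa [conj_eq_of_mem (hn hc)] at h1

/-- **COROLLARY** (#19420): `[N_0, N_1] ≠ 1`, `V_j ≤ N_j` ⟹ `W_j = N_j`. -/
theorem W_eq_N (hML : MLK.{u, u}) (hK : ∀ i, IsKGroup (CC v i)) {i j : Fin 2} (hij : i ≠ j)
    (h : ¬ NU V v i ≤ centralizer (NU V v j : Set G)) (hV : V j ≤ NU V v j) : WU V v j = NU V v j := by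
  have hWN : WU V v j ≤ NU V v j := V_le fun c hc => by
    have h1 := conj_le_iff (g := c) |>.2 hV
    rwa [conj_eq_of_mem (D.C_le_N_N j hc)] at h1
  by_contra hne
  have h1 : ¬ NU V v j ≤ WU V v j := fun h' => hne (le_antisymm hWN h')
  have h2 := D.sub_RR hML hK hij.symm (D.C_le_N_W j) hWN h1
  exact D.lemR hij h (h2.trans (centralizer_le (D.V_le_W j)))

end Fr

end Cfsg.Agent.Omega.TC

end

end
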